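import Mathlib
import Cfsg.Agent.Clifford.Basic

/-!
Clifford correspondence: induction from the inertia group.
-/

set_option autoImplicit false

namespace CfsgLib.Clifford

open CfsgLib.CharBasics

universe u

variable {G : Type u} [Group G] {N : Subgroup G} [hN : N.Normal]

/-- The restriction to `N` of a constituent on `T` has at most the multiplicity of the whole. -/
theorem classInner_restrict_split [Fintype G] [Fintype N] {T : Subgroup G} [Fintype T] (hNT : N ≤ T)
    {χ : G → ℂ} (hχ : Cfsg.IsCharacter G χ) {ψ : T → ℂ} (hψ : Cfsg.IsIrrCharacter T ψ)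
    (hψc : Cfsg.classInner (fun t : T => χ t) ψ ≠ 0) (θ : N → ℂ) :
    ∃ R : T → ℂ, Cfsg.IsCharacter T R ∧ (fun t : T => χ t) = ψ + R ∧
      Cfsg.classInner (fun n : N => χ n) θ =
        Cfsg.classInner (fun n : N => ψ ⟨(n : G), hNT n.2⟩) θ +
        Cfsg.classInner (fun n : N => R ⟨(n : G), hNT n.2⟩) θ := by
  obtain ⟨R, hR, hsum⟩ :=
    exists_eq_add_of_constituent (CfsgLib.CharBasics.isCharacter_restrict hχ T) hψ hψc
  refine ⟨R, hR, hsum, ?_⟩
  rw [← classInner_add_left]
  congr 1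
  funext n
  exact congrFun hsum ⟨(n : G), hNT n.2⟩

/-- Induction from the inertia group gives irreducible characters with the same multiplicity. -/
theorem indFun_inertia_irr [Fintype G] [Fintype N] {θ : N → ℂ} (hθ : Cfsg.IsIrrCharacter N θ)
    (T : Subgroup G) [Fintype T] (hT : T = inertia θ) (hNT : N ≤ T) {ψ : T → ℂ}
    (hψ : Cfsg.IsIrrCharacter T ψ)
    (h : Cfsg.classInner (fun n : N => ψ ⟨(n : G), hNT n.2⟩) θ ≠ 0) :
    Cfsg.IsIrrCharacter G (Cfsg.indFun T ψ) ∧
      Cfsg.classInner (fun n : N => Cfsg.indFun T ψ n) θ =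
        Cfsg.classInner (fun n : N => ψ ⟨(n : G), hNT n.2⟩) θ := by
  classical
  have hψN := restrict_inertia_eq hθ T hT.le hNT hψ h
  have hI := isCharacter_indFun T (isCharacter_of_irr hψ)
  have hI1 : Cfsg.indFun T ψ 1 ≠ 0 := by
    rw [indFun_apply_one]
    exact mul_ne_zero (Nat.cast_ne_zero.mpr Subgroup.index_ne_zero_of_finite) (apply_one_ne_zero hψ)
  obtain ⟨χ, k, hk, hkeq⟩ := exists_constituent hI hI1
  have hχne : Cfsg.classInner (Cfsg.indFun T ψ) (χ : G → ℂ) ≠ 0 := by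
    rw [hkeq]
    exact Nat.cast_ne_zero.mpr hk.ne'
  have hψc : Cfsg.classInner (fun t : T => (χ : G → ℂ) t) ψ ≠ 0 := by
    rw [classInner_indFun T ψ (isClassFunction (isCharacter_of_irr χ.2))] at hχne
    rw [classInner_comm, Ne, map_eq_zero]
    exact hχne
  obtain ⟨R, hR, -, hsplit⟩ :=
    classInner_restrict_split hNT (isCharacter_of_irr χ.2) hψ hψc θ
  obtain ⟨m, hm⟩ := classInner_characters_nat
    (CfsgLib.CharBasics.isCharacter_comp (isCharacter_of_irr hψ) (Subgroup.inclusion hNT)) (isCharacter_of_irr hθ)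
  change Cfsg.classInner (fun n : N => ψ ⟨(n : G), hNT n.2⟩) θ = m at hm
  obtain ⟨r, hr⟩ := classInner_characters_nat
    (CfsgLib.CharBasics.isCharacter_comp hR (Subgroup.inclusion hNT)) (isCharacter_of_irr hθ)
  change Cfsg.classInner (fun n : N => R ⟨(n : G), hNT n.2⟩) θ = r at hr
  rw [hm, hr, ← Nat.cast_add] at hsplit
  have hm0 : m ≠ 0 := fun h0 => h (by rw [hm, h0, Nat.cast_zero])
  obtain ⟨R', hR', hsum⟩ := exists_eq_add_of_constituent hI χ.2 hχne
  have hdeg := congrFun hsum 1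
  have hψ1 : ψ 1 = (m : ℂ) * θ 1 := by
    have := congrFun hψN 1
    simp only [Pi.smul_apply, smul_eq_mul, hm] at this
    exact this
  have hne : Cfsg.classInner (fun n : N => (χ : G → ℂ) n) θ ≠ 0 := by
    rw [hsplit]
    exact_mod_cast (by omega : m + r ≠ 0)
  have hχ1 := restrict_one_eq χ.2 hθ hne
  rw [hsplit, ← hT] at hχ1
  obtain ⟨d, hd, hd0⟩ : ∃ d : ℕ, θ 1 = d ∧ 0 < d :=
    ⟨_, apply_one (isCharacter_of_irr hθ), charDegree_pos hθ⟩
  rw [indFun_apply_one, hψ1, Pi.add_apply, hχ1, apply_one hR', hd] at hdeg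
  have hdeg' : T.index * (m * d) = (m + r) * T.index * d + Cfsg.charDegree R' := by exact_mod_cast hdeg
  have hpos : 0 < T.index * d := Nat.mul_pos (Nat.pos_of_ne_zero Subgroup.index_ne_zero_of_finite) hd0
  have h0 : r * (T.index * d) + Cfsg.charDegree R' = 0 := by nlinarith
  have hr0 : r = 0 := by
    by_contra hr0
    have := Nat.mul_pos (Nat.pos_of_ne_zero hr0) hpos
    omega
  have hR0 : R' = 0 := eq_zero_of_apply_one hR' (by
    rw [apply_one hR']
    exact_mod_cast (by omega : Cfsg.charDegree R' = 0))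
  rw [hsum, hR0, add_zero]
  exact ⟨χ.2, by rw [hsplit, hr0, add_zero, hm]⟩

/-- Induction from the inertia group is injective on the characters over `θ`. -/
theorem indFun_inertia_inj [Fintype G] [Fintype N] {θ : N → ℂ} (hθ : Cfsg.IsIrrCharacter N θ)
    (T : Subgroup G) [Fintype T] (hT : T = inertia θ) (hNT : N ≤ T) {ψ ψ' : T → ℂ}
    (hψ : Cfsg.IsIrrCharacter T ψ) (hψ' : Cfsg.IsIrrCharacter T ψ')
    (h : Cfsg.classInner (fun n : N => ψ ⟨(n : G), hNT n.2⟩) θ ≠ 0)
    (h' : Cfsg.classInner (fun n : N => ψ' ⟨(n : G), hNT n.2⟩) θ ≠ 0)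
    (heq : Cfsg.indFun T ψ = Cfsg.indFun T ψ') : ψ = ψ' := by
  classical
  by_contra hne
  obtain ⟨hirr, hmul⟩ := indFun_inertia_irr hθ T hT hNT hψ h
  obtain ⟨hirr', hmul'⟩ := indFun_inertia_irr hθ T hT hNT hψ' h'
  rw [← heq] at hmul' hirr'
  have hI := isCharacter_of_irr hirr
  have hc : ∀ {η : T → ℂ}, Cfsg.indFun T η = Cfsg.indFun T ψ →
      Cfsg.classInner (fun t : T => Cfsg.indFun T ψ t) η = 1 := fun {η} hη => by
    rw [classInner_comm, ← classInner_indFun T η (isClassFunction hI), hη, classInner_self hirr, map_one]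
  obtain ⟨R, hR, hsum, hsplit⟩ := classInner_restrict_split hNT hI hψ (by rw [hc rfl]; exact one_ne_zero) θ
  have hR' : Cfsg.classInner R ψ' = 1 := by
    have h1 := hc heq.symm
    rw [hsum, classInner_add_left, classInner_ne hψ hψ' hne, zero_add] at h1
    exact h1
  obtain ⟨R2, hR2, hsum2⟩ := exists_eq_add_of_constituent hR hψ' (by rw [hR']; exact one_ne_zero)
  obtain ⟨m, hm⟩ := classInner_characters_nat
    (CfsgLib.CharBasics.isCharacter_comp (isCharacter_of_irr hψ) (Subgroup.inclusion hNT)) (isCharacter_of_irr hθ)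
  change Cfsg.classInner (fun n : N => ψ ⟨(n : G), hNT n.2⟩) θ = m at hm
  obtain ⟨r, hr⟩ := classInner_characters_nat
    (CfsgLib.CharBasics.isCharacter_comp hR2 (Subgroup.inclusion hNT)) (isCharacter_of_irr hθ)
  change Cfsg.classInner (fun n : N => R2 ⟨(n : G), hNT n.2⟩) θ = r at hr
  have hRN : Cfsg.classInner (fun n : N => R ⟨(n : G), hNT n.2⟩) θ =
      Cfsg.classInner (fun n : N => ψ' ⟨(n : G), hNT n.2⟩) θ + r := by
    rw [← hr, ← classInner_add_left]
    congr 1
    funext n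
    exact congrFun hsum2 ⟨(n : G), hNT n.2⟩
  rw [hRN, hmul, ← hmul', hmul, hm, ← Nat.cast_add, ← Nat.cast_add, Nat.cast_inj] at hsplit
  exact h (by rw [hm, show m = 0 by omega, Nat.cast_zero])

end CfsgLib.Clifford
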