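import Mathlib
import Cfsg.Agent.Clifford.Gallagher
import Cfsg.Agent.Clifford.Correspondence
import Cfsg.Agent.Clifford.ExtCriteria

/-!
The constituents of an induced character when the inertia quotient is abelian.
-/

set_option autoImplicit false

namespace CfsgLib.Clifford

open CfsgLib.CharBasics

universe u

variable {G : Type u} [Group G] {N : Subgroup G} [hN : N.Normal]

omit hN in
/-- An irreducible character with kernel containing the commutators is linear. -/
theorem apply_one_eq_one_of_commutators [Finite G] {β : G → ℂ} (hβ : Cfsg.IsIrrCharacter G β)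
    (h : ∀ x y : G, β (x * y * x⁻¹ * y⁻¹) = β 1) : β 1 = 1 := by
  obtain ⟨k, σ, hσ, rfl⟩ := hβ
  have hcomm : ∀ a b : G, σ (a * b) = σ (b * a) := by
    intro a b
    have h2 := eq_id_of_character_eq σ (a * b * a⁻¹ * b⁻¹) (h a b)
    rw [show a * b = a * b * a⁻¹ * b⁻¹ * (b * a) by group, map_mul, h2]
    rfl
  have hdvd := finrank_dvd_index_of_scalar hσ (⊤ : Subgroup G) fun z _ => schur_scalar hσ (σ z) fun g => by
    rw [← map_mul, ← map_mul]
    exact hcomm z g
  rw [Subgroup.index_top, Nat.dvd_one] at hdvd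
  rw [Representation.char_one, hdvd, Nat.cast_one]

/-- An invariant character under an abelian quotient. -/
theorem indFun_invariant_abelian [Fintype G] [Fintype N] {θ : N → ℂ} (hθ : Cfsg.IsIrrCharacter N θ)
    (hinv : ∀ g : G, conjFun g θ = θ) (hab : ∀ x y : G, x * y * x⁻¹ * y⁻¹ ∈ N) :
    ∃ (e : ℕ) (C : Finset (G → ℂ)), 0 < e ∧ (∀ ψ ∈ C, Cfsg.IsIrrCharacter G ψ) ∧
      e ^ 2 * C.card = N.index ∧ Cfsg.indFun N θ = (e : ℂ) • ∑ ψ ∈ C, ψ ∧
      (∀ ψ ∈ C, (fun n : N => ψ n) = (e : ℂ) • θ) ∧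
      ∀ χ : G → ℂ, Cfsg.IsIrrCharacter G χ → Cfsg.classInner (fun n : N => χ n) θ ≠ 0 → χ ∈ C := by
  classical
  have := Fintype.ofFinite (Cfsg.IrrCharacter G)
  have hI := isCharacter_indFun N (isCharacter_of_irr hθ)
  have hI1 : Cfsg.indFun N θ 1 ≠ 0 := by
    rw [indFun_apply_one]
    exact mul_ne_zero (Nat.cast_ne_zero.mpr Subgroup.index_ne_zero_of_finite) (apply_one_ne_zero hθ)
  obtain ⟨ψ, k, hk, hke⟩ := exists_constituent hI hI1
  have hover : ∀ {χ : G → ℂ}, Cfsg.IsIrrCharacter G χ →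
      (Cfsg.classInner (Cfsg.indFun N θ) χ ≠ 0 ↔ Cfsg.classInner (fun n : N => χ n) θ ≠ 0) := fun {χ} hχ => by
    rw [classInner_indFun N θ (isClassFunction (isCharacter_of_irr hχ)), classInner_comm, Ne, map_eq_zero]
  have hψne : Cfsg.classInner (fun n : N => (ψ : G → ℂ) n) θ ≠ 0 :=
    (hover ψ.2).mp (by rw [hke]; exact Nat.cast_ne_zero.mpr hk.ne')
  have hψN := restrict_eq_smul_of_invariant ψ.2 hθ hinv hψne
  obtain ⟨e, he⟩ := classInner_characters_nat
    (CfsgLib.CharBasics.isCharacter_restrict (isCharacter_of_irr ψ.2) N) (isCharacter_of_irr hθ)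
  change Cfsg.classInner (fun n : N => (ψ : G → ℂ) n) θ = (e : ℂ) at he
  rw [he] at hψN hψne
  have he0 : e ≠ 0 := fun h => hψne (by rw [h, Nat.cast_zero])
  -- every constituent restricts in the same way
  have hall : ∀ χ : G → ℂ, Cfsg.IsIrrCharacter G χ → Cfsg.classInner (fun n : N => χ n) θ ≠ 0 →
      (fun n : N => χ n) = (e : ℂ) • θ := by
    intro χ hχ hne
    have h1 : Cfsg.indFun N (fun _ => 1) * (ψ : G → ℂ) = (e : ℂ) • Cfsg.indFun N θ := by
      rw [← indFun_mul_restrict N (fun _ => 1) (isClassFunction (isCharacter_of_irr ψ.2))]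
      have h2 : (fun n : N => (1 : ℂ) * (ψ : G → ℂ) n) = fun n : N => θ n * (e : ℂ) := by
        funext n
        rw [one_mul, mul_comm]
        exact congrFun hψN n
      rw [h2, indFun_mul_restrict N θ (f := fun _ : G => (e : ℂ)) (fun _ _ => rfl)]
      funext g
      rw [Pi.mul_apply, Pi.smul_apply, smul_eq_mul, mul_comm]
    obtain ⟨r, f, hf, hdec⟩ := exists_decomp (isCharacter_indFun N (θ := fun _ : N => (1 : ℂ))
      (isCharacter_of_irr isIrrCharacter_one))
    have h3 : Cfsg.classInner ((e : ℂ) • Cfsg.indFun N θ) χ ≠ 0 := by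
      rw [classInner_smul_left]
      exact mul_ne_zero (Nat.cast_ne_zero.mpr he0) ((hover hχ).mpr hne)
    rw [← h1, hdec, Finset.sum_mul, classInner_sum_left] at h3
    obtain ⟨i, -, hi⟩ := Finset.exists_ne_zero_of_sum_ne_zero h3
    have hiN : ∀ n ∈ N, f i n = f i 1 := by
      refine (mem_over_one_iff (hf i)).mp ?_
      rw [hdec, classInner_sum_left, ← Finset.add_sum_erase _ _ (Finset.mem_univ i), classInner_self (hf i)]
      obtain ⟨j, hj⟩ := classInner_characters_nat
        (CfsgLib.CharBasics.isCharacter_sum (Finset.univ.erase i) f fun j _ => isCharacter_of_irr (hf j))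
        (isCharacter_of_irr (hf i))
      rw [← classInner_sum_left, hj]
      exact_mod_cast (by omega : 1 + j ≠ 0)
    have hi1 := apply_one_eq_one_of_commutators (hf i) fun x y => hiN _ (hab x y)
    obtain ⟨μ, hμ⟩ := exists_hom_of_linear (isCharacter_of_irr (hf i)) hi1
    have hprod : Cfsg.IsIrrCharacter G (f i * (ψ : G → ℂ)) := by
      rw [hμ]
      exact isIrrCharacter_linear_mul ψ.2 μ
    have heq : f i * (ψ : G → ℂ) = χ := by
      by_contra hh
      exact hi (classInner_ne hprod hχ hh)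
    rw [← hψN, ← heq]
    funext n
    rw [Pi.mul_apply, hiN n n.2, hi1, one_mul]
  refine ⟨e, (Finset.univ.filter fun χ : Cfsg.IrrCharacter G =>
      Cfsg.classInner (fun n : N => (χ : G → ℂ) n) θ ≠ 0).image Subtype.val, Nat.pos_of_ne_zero he0, ?_, ?_, ?_, ?_, ?_⟩
  · intro η hη
    obtain ⟨χ, -, rfl⟩ := Finset.mem_image.mp hη
    exact χ.2
  rotate_left
  · rw [Finset.sum_image fun a _ b _ h => Subtype.ext h, Finset.smul_sum, Finset.sum_filter]
    conv_lhs => rw [classFun_expand (isClassFunction hI)]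
    refine Finset.sum_congr rfl fun χ _ => ?_
    rw [classInner_indFun N θ (isClassFunction (isCharacter_of_irr χ.2)), classInner_comm]
    split_ifs with h
    · rw [hall _ χ.2 h, classInner_smul_left, classInner_self hθ, mul_one, Complex.conj_natCast]
    · rw [not_not.mp h, map_zero, zero_smul]
  · intro η hη
    obtain ⟨χ, hχ, rfl⟩ := Finset.mem_image.mp hη
    exact hall _ χ.2 (Finset.mem_filter.mp hχ).2
  · intro χ hχ hne
    exact Finset.mem_image.mpr ⟨⟨χ, hχ⟩, Finset.mem_filter.mpr ⟨Finset.mem_univ _, hne⟩, rfl⟩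
  · rw [Finset.card_image_of_injective _ Subtype.val_injective]
    have h := classInner_indFun_self_of_invariant hθ hinv
    nth_rewrite 1 [classFun_expand (isClassFunction hI)] at h
    rw [classInner_sum_left] at h
    have hterm : ∀ χ : Cfsg.IrrCharacter G,
        Cfsg.classInner (Cfsg.classInner (Cfsg.indFun N θ) (χ : G → ℂ) • (χ : G → ℂ)) (Cfsg.indFun N θ) =
          if Cfsg.classInner (fun n : N => (χ : G → ℂ) n) θ ≠ 0 then ((e ^ 2 : ℕ) : ℂ) else 0 := by
      intro χ
      rw [classInner_smul_left, classInner_comm (Cfsg.indFun N θ) (χ : G → ℂ),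
        classInner_indFun N θ (isClassFunction (isCharacter_of_irr χ.2)),
        classInner_comm (fun n : N => (χ : G → ℂ) n) θ]
      split_ifs with hh
      · rw [hall _ χ.2 hh, classInner_smul_left, classInner_self hθ]
        simp [sq]
      · rw [not_not.mp hh]
        simp
    rw [Finset.sum_congr rfl (fun χ _ => hterm χ), ← Finset.sum_filter, Finset.sum_const, nsmul_eq_mul] at h
    rw [mul_comm]
    exact_mod_cast h

/-- Inertia group with abelian quotient. -/
theorem indFun_abelian_inertia [Fintype G] [Fintype N] {θ : N → ℂ} (hθ : Cfsg.IsIrrCharacter N θ)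
    (T : Subgroup G) (hT : T = inertia θ) (hab : ∀ x ∈ T, ∀ y ∈ T, x * y * x⁻¹ * y⁻¹ ∈ N) :
    ∃ (e : ℕ) (C : Finset (G → ℂ)), 0 < e ∧ (∀ χ ∈ C, Cfsg.IsIrrCharacter G χ) ∧
      e ^ 2 * C.card = N.relIndex T ∧ Cfsg.indFun N θ = (e : ℂ) • ∑ χ ∈ C, χ ∧
      (∀ χ ∈ C, χ 1 = (T.index : ℂ) * e * θ 1) ∧
      (Nat.Coprime (Nat.card N) (N.relIndex T) → e = 1) := by
  classical
  have := Fintype.ofFinite T
  have hNT : N ≤ T := hT ▸ le_inertia (isClassFunction (isCharacter_of_irr hθ))
  let E : N.subgroupOf T ≃* N := Subgroup.subgroupOfEquivOfLe hNT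
  have hθ' : Cfsg.IsIrrCharacter (N.subgroupOf T) (fun m => θ (E m)) :=
    CfsgLib.Clifford.isIrrCharacter_comp hθ E.toMonoidHom E.surjective
  have hinv : ∀ g : T, conjFun g (fun m : N.subgroupOf T => θ (E m)) = fun m => θ (E m) := fun g =>
    funext fun m => congrFun (hT.le g.2) (E m)
  have hinner : ∀ ψ : T → ℂ, Cfsg.classInner (fun m : N.subgroupOf T => ψ m) (fun m => θ (E m)) =
      Cfsg.classInner (fun n : N => ψ ⟨(n : G), hNT n.2⟩) θ := fun ψ =>
    classInner_comp_equiv E (fun n : N => ψ ⟨(n : G), hNT n.2⟩) θ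
  obtain ⟨e, C, he, hC, hcard, hind, hres, hmem⟩ :=
    indFun_invariant_abelian hθ' hinv fun x y => hab x x.2 y y.2
  have hCne : ∀ ψ ∈ C, Cfsg.classInner (fun n : N => ψ ⟨(n : G), hNT n.2⟩) θ ≠ 0 := fun ψ hψ => by
    rw [← hinner, hres ψ hψ, classInner_smul_left, classInner_self hθ', mul_one]
    exact Nat.cast_ne_zero.mpr he.ne'
  have hinj : Set.InjOn (Cfsg.indFun T) (C : Set (T → ℂ)) := fun a ha b hb h =>
    indFun_inertia_inj hθ T hT hNT (hC a ha) (hC b hb) (hCne a ha) (hCne b hb) h
  refine ⟨e, C.image (Cfsg.indFun T), he, ?_, ?_, ?_, ?_, ?_⟩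
  · intro χ hχ
    obtain ⟨ψ, hψ, rfl⟩ := Finset.mem_image.mp hχ
    exact (indFun_inertia_irr hθ T hT hNT (hC ψ hψ) (hCne ψ hψ)).1
  · rw [Finset.card_image_of_injOn hinj]
    exact hcard
  · rw [Finset.sum_image fun a ha b hb h => hinj ha hb h, ← sub_eq_zero]
    refine eq_zero_of_classInner ?_ fun χ => ?_
    · intro g x
      simp only [Pi.sub_apply, Pi.smul_apply, Finset.sum_apply]
      rw [isClassFunction_indFun N θ g x, Finset.sum_congr rfl fun ψ _ => isClassFunction_indFun T ψ g x]
    · have hcl := isClassFunction (isCharacter_of_irr χ.2)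
      have hL : Cfsg.classInner (Cfsg.indFun N θ) (χ : G → ℂ) =
          Cfsg.classInner (Cfsg.indFun (N.subgroupOf T) fun m => θ (E m)) (fun t : T => (χ : G → ℂ) t) := by
        rw [classInner_indFun N θ hcl, classInner_indFun (N.subgroupOf T) _
          (isClassFunction (CfsgLib.CharBasics.isCharacter_restrict (isCharacter_of_irr χ.2) T))]
        exact (classInner_comp_equiv E θ (fun n : N => (χ : G → ℂ) n)).symm
      rw [classInner_sub_left, hL, hind, classInner_smul_left, classInner_smul_left, classInner_sum_left,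
        classInner_sum_left, sub_eq_zero]
      congr 1
      exact Finset.sum_congr rfl fun ψ _ => (classInner_indFun T ψ hcl).symm
  · intro χ hχ
    obtain ⟨ψ, hψ, rfl⟩ := Finset.mem_image.mp hχ
    have h1 := congrFun (hres ψ hψ) 1
    simp only [Pi.smul_apply, smul_eq_mul, map_one, Subgroup.coe_one] at h1
    rw [indFun_apply_one, h1, mul_assoc]
  · intro hcop
    obtain ⟨d, hd⟩ : ∃ d : ℕ, θ 1 = d := ⟨_, apply_one (isCharacter_of_irr hθ)⟩
    have hcop' : Nat.Coprime (N.subgroupOf T).index (Nat.card (N.subgroupOf T)) := by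
      rw [Nat.card_congr E.toEquiv]
      exact Nat.Coprime.symm hcop
    have hd' : (fun m : N.subgroupOf T => θ (E m)) 1 = (d : ℂ) := by
      simp only [map_one, hd]
    have hdc : Nat.Coprime (N.subgroupOf T).index d := by
      refine Nat.Coprime.coprime_dvd_right ?_ hcop'
      have h := degree_dvd (G := N.subgroupOf T) ⟨_, hθ'⟩
      rwa [show Cfsg.charDegree (fun m : N.subgroupOf T => θ (E m)) = d by
        unfold Cfsg.charDegree; simp only [map_one, hd, Complex.natCast_re, Nat.floor_natCast]] at h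
    obtain ⟨f, hf⟩ := exists_detHom hθ'
    obtain ⟨k, σ, hσ, hσθ⟩ := id hθ'
    have hfinv : ∀ (g : T) (n : N.subgroupOf T),
        f ⟨g * n * g⁻¹, (inferInstance : (N.subgroupOf T).Normal).conj_mem (n : T) n.2 g⟩ = f n := by
      intro g n
      let τ : Representation ℂ (N.subgroupOf T) (Fin k → ℂ) := σ.comp (MulAut.conjNormal g).toMonoidHom
      have h1 : τ.character = fun m => θ (E m) := by
        have : τ.character = fun m => σ.character (MulAut.conjNormal g m) := rfl
        rw [this, hσθ, ← conjFun_eq_comp g (fun m => θ (E m)), hinv g]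
      have d1 := congrFun (detChar_eq hθ' τ h1) n
      have d2 := congrFun (detChar_eq hθ' σ hσθ) (MulAut.conjNormal g n)
      have d3 : (⟨g * n * g⁻¹, (inferInstance : (N.subgroupOf T).Normal).conj_mem (n : T) n.2 g⟩ : N.subgroupOf T) =
          MulAut.conjNormal g n := Subtype.ext (MulAut.conjNormal_apply g n).symm
      rw [d3, ← congrFun hf, ← congrFun hf, d2, d1]
      rfl
    obtain ⟨μ, hμ, -⟩ := exists_coprime_linearExtension f hfinv (o := Nat.card (N.subgroupOf T))
      (fun n => by rw [← map_pow, pow_card_eq_one', map_one]) hcop'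
    obtain ⟨ψ, hψ, hext⟩ := exists_charExtension_of_det hθ'
      (fun g n => congrFun (hinv g) n) hd' hdc μ (fun n => by rw [hμ, hf])
    have hψC : ψ ∈ C := hmem ψ hψ (by
      rw [show (fun m : N.subgroupOf T => ψ m) = fun m => θ (E m) from funext hext, classInner_self hθ']
      exact one_ne_zero)
    have h1 := congrFun (hres ψ hψC) 1
    simp only [Pi.smul_apply, smul_eq_mul] at h1
    rw [hext] at h1
    exact_mod_cast (mul_eq_right₀ (apply_one_ne_zero hθ')).mp h1.symm

end CfsgLib.Clifford
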