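import Mathlib
import Cfsg.Agent.Clifford.ProjDegree
import Cfsg.Agent.Clifford.Correspondence
import Cfsg.Agent.CharBasics.Extra

/-!
The multiplicity over an invariant character divides the index; Ito's theorem.
-/

set_option autoImplicit false

namespace CfsgLib.Clifford

open CfsgLib.CharBasics

universe u

variable {G : Type u} [Group G]

/-- The multiplicity over an invariant character divides the index. -/
theorem charMult_dvd_index [Finite G] {N : Subgroup G} [hN : N.Normal] {χ : G → ℂ}
    (hχ : Cfsg.IsIrrCharacter G χ) {θ : N → ℂ} (hθ : Cfsg.IsIrrCharacter N θ)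
    (hinv : ∀ g : G, conjFun g θ = θ) (e : ℕ) (he : ∀ n : N, χ n = (e : ℂ) * θ n) : e ∣ N.index := by
  obtain ⟨k, ρ, hρ, rfl⟩ := hχ
  obtain ⟨l, σ, hσ, rfl⟩ := hθ
  refine mult_dvd_index hρ hσ (fun g n => ?_) e he
  have := congrFun (hinv g) n
  rw [conjFun_eq_comp] at this
  exact this

/-- Ito: the degree of an irreducible character divides the index of an abelian normal subgroup. -/
theorem ito_dvd [Finite G] {χ : G → ℂ} (hχ : Cfsg.IsIrrCharacter G χ) (A : Subgroup G) [hA : A.Normal]
    [IsMulCommutative A] : Cfsg.charDegree χ ∣ A.index := by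
  classical
  have := Fintype.ofFinite G
  have := Fintype.ofFinite A
  obtain ⟨φ, hφ⟩ := exists_restrict_constituent A ⟨χ, hχ⟩
  have hne : Cfsg.classInner (fun n : A => χ n) (φ : A → ℂ) ≠ 0 := by
    rw [classInner_comm, Ne, map_eq_zero]
    exact hφ
  obtain ⟨e, he⟩ := classInner_characters_nat
    (CfsgLib.CharBasics.isCharacter_restrict (isCharacter_of_irr hχ) A) (isCharacter_of_irr φ.2)
  change Cfsg.classInner (fun n : A => χ n) (φ : A → ℂ) = (e : ℂ) at he
  have hφ1 : (φ : A → ℂ) 1 = 1 := (irr_comm_hom φ.2).1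
  have hAT : A ≤ inertia (φ : A → ℂ) := le_inertia (CfsgLib.CharBasics.isClassFunction (isCharacter_of_irr φ.2))
  set T := inertia (φ : A → ℂ) with hT
  have := Fintype.ofFinite T
  obtain ⟨ψ, hψ, -, -, hψN⟩ := exists_inertia_correspondent hχ φ.2 hne T rfl hAT
  let E : A.subgroupOf T ≃* A := Subgroup.subgroupOfEquivOfLe hAT
  have hφ' : Cfsg.IsIrrCharacter (A.subgroupOf T) (fun m => (φ : A → ℂ) (E m)) :=
    CfsgLib.Clifford.isIrrCharacter_comp φ.2 E.toMonoidHom E.surjective
  have hdvd : e ∣ (A.subgroupOf T).index := by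
    refine charMult_dvd_index hψ hφ' (fun t => funext fun m => congrFun (mem_inertia.mp t.2) (E m)) e fun m => ?_
    have := congrFun hψN (E m)
    rw [he] at this
    exact this
  have h1 := restrict_one_eq hχ φ.2 hne
  rw [he, hφ1, mul_one, apply_one (isCharacter_of_irr hχ), ← hT, ← Nat.cast_mul, Nat.cast_inj] at h1
  rw [h1, ← Subgroup.relIndex_mul_index hAT]
  exact Nat.mul_dvd_mul_right hdvd T.index

end CfsgLib.Clifford
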