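import Mathlib
import Cfsg.Agent.CharBasics.Ortho

/-!
Brauer's permutation lemma.
-/

set_option autoImplicit false

namespace CfsgLib.Clifford

open scoped ComplexConjugate
open CfsgLib.CharBasics

universe u

/-- Compatible permutations of irreducible characters and of classes fix equally many. -/
theorem brauer_perm {G : Type u} [Group G] [Finite G] (σ : Cfsg.IrrCharacter G ≃ Cfsg.IrrCharacter G)
    (τ : ConjClasses G ≃ ConjClasses G)
    (h : ∀ (χ : Cfsg.IrrCharacter G) (g g' : G), ConjClasses.mk g' = τ (ConjClasses.mk g) →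
      ((σ χ : Cfsg.IrrCharacter G) : G → ℂ) g' = (χ : G → ℂ) g) :
    Nat.card {χ : Cfsg.IrrCharacter G // σ χ = χ} = Nat.card {C : ConjClasses G // τ C = C} := by
  classical
  have := Fintype.ofFinite G
  have := Fintype.ofFinite (Cfsg.IrrCharacter G)
  have := Fintype.ofFinite (ConjClasses G)
  choose rep hrep using fun C : ConjClasses G => ConjClasses.exists_rep C
  have hG : (Nat.card G : ℂ) ≠ 0 := Nat.cast_ne_zero.mpr Nat.card_pos.ne'
  have h1 : (Nat.card {χ : Cfsg.IrrCharacter G // σ χ = χ} : ℂ) =
      (Nat.card G : ℂ)⁻¹ * ∑ g : G, ∑ χ : Cfsg.IrrCharacter G,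
        (χ : G → ℂ) g * conj ((χ : G → ℂ) (rep (τ (ConjClasses.mk g)))) := by
    have hterm : ∀ χ : Cfsg.IrrCharacter G, (if σ χ = χ then (1 : ℂ) else 0) =
        Cfsg.classInner (χ : G → ℂ) (σ.symm χ : Cfsg.IrrCharacter G).1 := by
      intro χ
      rw [classInner_irr]
      exact if_congr (by rw [Equiv.eq_symm_apply]) rfl rfl
    rw [Nat.card_eq_fintype_card, Fintype.card_subtype, ← Finset.sum_boole,
      Finset.sum_congr rfl (fun χ _ => hterm χ), Finset.sum_comm (s := (Finset.univ : Finset G)), Finset.mul_sum]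
    refine Finset.sum_congr rfl fun χ _ => ?_
    rw [classInner_eq]
    congr 1
    refine Finset.sum_congr rfl fun g _ => ?_
    have := h (σ.symm χ) g _ (hrep (τ (ConjClasses.mk g)))
    rw [Equiv.apply_symm_apply] at this
    rw [← this]
  have h2 : ∀ g : G, ∑ χ : Cfsg.IrrCharacter G, (χ : G → ℂ) g * conj ((χ : G → ℂ) (rep (τ (ConjClasses.mk g)))) =
      if τ (ConjClasses.mk g) = ConjClasses.mk g then
        (Nat.card (Subgroup.centralizer ({g} : Set G)) : ℂ) else 0 := by
    intro g
    rw [sum_col]
    refine if_congr ?_ rfl rfl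
    rw [← ConjClasses.mk_eq_mk_iff_isConj, hrep, eq_comm]
  rw [← Nat.cast_inj (R := ℂ), h1, Finset.sum_congr rfl (fun g _ => h2 g), ← Finset.sum_fiberwise_of_maps_to
    (g := ConjClasses.mk) (fun g _ => Finset.mem_univ _),
    Nat.card_eq_fintype_card (α := {C : ConjClasses G // τ C = C}), Fintype.card_subtype, ← Finset.sum_boole,
    Finset.mul_sum]
  refine Finset.sum_congr rfl fun C _ => ?_
  by_cases hC : τ C = C
  · rw [if_pos hC]
    obtain ⟨c, rfl⟩ := ConjClasses.exists_rep C
    have hcen : ∀ g ∈ (Finset.univ.filter fun g : G => ConjClasses.mk g = ConjClasses.mk c),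
        (if τ (ConjClasses.mk g) = ConjClasses.mk g then
          (Nat.card (Subgroup.centralizer ({g} : Set G)) : ℂ) else 0) =
          (Nat.card (Subgroup.centralizer ({c} : Set G)) : ℂ) := by
      intro g hg
      have hg' := (Finset.mem_filter.mp hg).2
      rw [hg', if_pos hC]
      have hA := sum_col g g
      have hB := sum_col c c
      rw [if_pos (IsConj.refl g)] at hA
      rw [if_pos (IsConj.refl c)] at hB
      rw [← hA, ← hB]
      refine Finset.sum_congr rfl fun χ _ => ?_
      rw [apply_isConj (isCharacter_of_irr χ.2) (ConjClasses.mk_eq_mk_iff_isConj.mp hg')]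
    rw [Finset.sum_congr rfl hcen, Finset.sum_const, nsmul_eq_mul]
    have hcard : (Finset.univ.filter fun g : G => ConjClasses.mk g = ConjClasses.mk c).card *
        Nat.card (Subgroup.centralizer ({c} : Set G)) = Nat.card G := by
      rw [← Fintype.card_subtype, ← Nat.card_eq_fintype_card]
      have e1 : Nat.card {g : G // ConjClasses.mk g = ConjClasses.mk c} = (MulAction.stabilizer (ConjAct G) c).index := by
        rw [MulAction.index_stabilizer, ← Nat.card_coe_set_eq]
        exact Nat.card_congr (Equiv.subtypeEquivRight fun g => by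
          rw [ConjAct.mem_orbit_conjAct, ConjClasses.mk_eq_mk_iff_isConj])
      rw [e1, ConjAct.stabilizer_eq_centralizer]
      exact Subgroup.index_mul_card _
    rw [← Nat.cast_mul, hcard, inv_mul_cancel₀ hG]
  · rw [if_neg hC, Finset.sum_eq_zero, mul_zero]
    intro g hg
    rw [(Finset.mem_filter.mp hg).2, if_neg hC]

end CfsgLib.Clifford
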