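import Cfsg.Agent.Blocks.Glauberman
import Cfsg.Agent.Clifford.Correspondence
import Cfsg.Agent.Clifford.ExtCriteria
import Cfsg.Agent.CharBasics.Extra

/-!
# Invariant characters of a group with a normal Sylow `p`-subgroup under a `p`-group of operators

A `p`-group `S` acts on `K`, `Q` is a normal Sylow `p`-subgroup of `K`, and `C` consists of the elements fixed
modulo `Q`. Restriction to `C` gives a bijection of invariant irreducible characters, characterised by the
multiplicity being prime to `p`.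
-/

set_option autoImplicit false
set_option linter.unusedSectionVars false
set_option linter.style.haveILetI false

namespace CfsgLib.NormalSylowCorr

open Cfsg CfsgLib.CharBasics CfsgLib.Blocks
open scoped ComplexConjugate

variable {p : ℕ} {S K : Type*} [Group S] [Group K]

/-- The action on an invariant subgroup. -/
def restrictAct (φ : S →* MulAut K) (Q : Subgroup K) (hQ : ∀ s, ∀ q ∈ Q, φ s q ∈ Q) : S →* MulAut Q where
  toFun s :=
    { toFun := fun q => ⟨φ s q, hQ s q q.2⟩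
      invFun := fun q => ⟨φ s⁻¹ q, hQ s⁻¹ q q.2⟩
      left_inv := fun q => Subtype.ext (by
        show φ s⁻¹ (φ s q) = q
        rw [← MulAut.mul_apply, ← map_mul, inv_mul_cancel, map_one]; rfl)
      right_inv := fun q => Subtype.ext (by
        show φ s (φ s⁻¹ q) = q
        rw [← MulAut.mul_apply, ← map_mul, mul_inv_cancel, map_one]; rfl)
      map_mul' := fun a b => Subtype.ext (map_mul (φ s) (a : K) (b : K)) }
  map_one' := MulEquiv.ext fun q => Subtype.ext (by show φ 1 (q : K) = q; rw [map_one]; rfl)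
  map_mul' s t := MulEquiv.ext fun q => Subtype.ext (by
    show φ (s * t) (q : K) = φ s (φ t (q : K)); rw [map_mul]; rfl)

theorem coe_restrictAct (φ : S →* MulAut K) (Q : Subgroup K) (hQ : ∀ s, ∀ q ∈ Q, φ s q ∈ Q) (s : S) (q : Q) :
    ((restrictAct φ Q hQ s q : Q) : K) = φ s q := rfl

theorem act_inv_apply (φ : S →* MulAut K) (s : S) (x : K) : φ s (φ s⁻¹ x) = x := by
  rw [← MulAut.mul_apply, ← map_mul, mul_inv_cancel, map_one]; rfl

theorem act_apply_inv (φ : S →* MulAut K) (s : S) (x : K) : φ s⁻¹ (φ s x) = x := by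
  rw [← MulAut.mul_apply, ← map_mul, inv_mul_cancel, map_one]; rfl

/-- A normal Sylow subgroup is the set of `p`-elements. -/
theorem mem_normalSylow_of_pow (hp : p.Prime) [Finite K] (Q : Subgroup K) [Q.Normal] (hidx : ¬ p ∣ Q.index)
    {x : K} {n : ℕ} (hx : x ^ p ^ n = 1) : x ∈ Q := by
  rw [← QuotientGroup.eq_one_iff, ← orderOf_eq_one_iff]
  obtain ⟨i, -, hi⟩ := (Nat.dvd_prime_pow hp).1
    (orderOf_dvd_of_pow_eq_one (x := (x : K ⧸ Q)) (n := p ^ n)
      (by rw [← QuotientGroup.mk_pow, hx, QuotientGroup.mk_one]))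
  rcases i with _ | i
  · rw [hi, pow_zero]
  · exact absurd (((dvd_pow_self p (Nat.succ_ne_zero i)).trans hi.symm.dvd).trans (orderOf_dvd_natCard _)) hidx

/-- A normal Sylow subgroup is invariant under automorphisms. -/
theorem act_mem (hp : p.Prime) [Finite K] (Q : Subgroup K) [Q.Normal] (hQ : IsPGroup p Q) (hidx : ¬ p ∣ Q.index)
    (a : MulAut K) {q : K} (hq : q ∈ Q) : a q ∈ Q := by
  obtain ⟨n, hn⟩ := hQ ⟨q, hq⟩
  exact mem_normalSylow_of_pow hp Q hidx (n := n)
    (by rw [← map_pow, show q ^ p ^ n = 1 from congrArg Subtype.val hn, map_one])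

/-- An invariant character has an invariant constituent on an invariant normal subgroup of index prime to `p`. -/
theorem exists_invariant_constituent [Fact p.Prime] [Finite S] (hS : IsPGroup p S) [Fintype K]
    (φ : S →* MulAut K) (Q : Subgroup K) [Q.Normal] [Fintype Q] (hQinv : ∀ s, ∀ q ∈ Q, φ s q ∈ Q)
    (hidx : ¬ p ∣ Q.index) {χ : K → ℂ} (hχ : IsIrrCharacter K χ) (hinv : IsInvariant φ χ) :
    ∃ θ : IrrCharacter Q, IsInvariant (restrictAct φ Q hQinv) (θ : Q → ℂ) ∧
      classInner (fun q : Q => χ q) (θ : Q → ℂ) ≠ 0 := by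
  classical
  have hres := isCharacter_restrict (isCharacter_of_irr hχ) Q
  obtain ⟨θ₀, m, hm0, hm⟩ := exists_constituent hres (by simpa using apply_one_ne_zero hχ)
  have hθ₀ : classInner (fun q : Q => χ q) (θ₀ : Q → ℂ) ≠ 0 := by rw [hm]; exact_mod_cast hm0.ne'
  set X := {θ : IrrCharacter Q // classInner (fun q : Q => χ q) (θ : Q → ℂ) ≠ 0}
  have hcard : Nat.card X ∣ Q.index := by
    have e : X ≃ (Finset.univ.image fun g : K => Clifford.conjFun g (θ₀ : Q → ℂ)) :=
      { toFun := fun θ => ⟨θ.1, by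
          obtain ⟨g, hg⟩ := Clifford.constituent_conj hχ θ₀.2 θ.1.2 hθ₀ θ.2
          exact Finset.mem_image.2 ⟨g, Finset.mem_univ _, hg.symm⟩⟩
        invFun := fun f => ⟨⟨f.1, by
          obtain ⟨g, -, hg⟩ := Finset.mem_image.1 f.2
          exact hg ▸ Clifford.isIrrCharacter_conjFun g θ₀.2⟩, by
          obtain ⟨g, -, hg⟩ := Finset.mem_image.1 f.2
          show classInner (fun q : Q => χ q) f.1 ≠ 0
          rw [← hg, ← Clifford.conjFun_restrict (isClassFunction (isCharacter_of_irr hχ)) g,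
            Clifford.classInner_conjFun]
          exact hθ₀⟩
        left_inv := fun θ => rfl
        right_inv := fun f => rfl }
    rw [Nat.card_congr e, Nat.card_eq_fintype_card, Fintype.card_coe, Clifford.card_orbit]
    exact Subgroup.index_dvd_of_le (Clifford.le_inertia (isClassFunction (isCharacter_of_irr θ₀.2)))
  have hstab : ∀ (s : S) (θ : IrrCharacter Q), classInner (fun q : Q => χ q)
      (fun q : Q => (θ : Q → ℂ) (restrictAct φ Q hQinv s q)) = classInner (fun q : Q => χ q) (θ : Q → ℂ) := by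
    intro s θ
    conv_rhs => rw [← Clifford.classInner_comp_equiv (restrictAct φ Q hQinv s)]
    congr 1
    funext q
    show χ q = χ ((restrictAct φ Q hQinv s q : Q) : K)
    rw [coe_restrictAct, hinv]
  letI : MulAction S X :=
    { smul := fun s θ => ⟨twistChar (restrictAct φ Q hQinv s⁻¹) θ.1, by
        show classInner _ (fun q : Q => (θ.1 : Q → ℂ) _) ≠ 0
        rw [hstab]; exact θ.2⟩
      one_smul := fun θ => Subtype.ext (Subtype.ext (funext fun q => by
        show (θ.1 : Q → ℂ) (restrictAct φ Q hQinv (1 : S)⁻¹ q) = _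
        rw [inv_one, map_one]; rfl))
      mul_smul := fun s t θ => Subtype.ext (Subtype.ext (funext fun q => by
        show (θ.1 : Q → ℂ) (restrictAct φ Q hQinv (s * t)⁻¹ q) =
          (θ.1 : Q → ℂ) (restrictAct φ Q hQinv t⁻¹ (restrictAct φ Q hQinv s⁻¹ q))
        rw [mul_inv_rev, map_mul]; rfl)) }
  obtain ⟨θ, hθ⟩ := hS.nonempty_fixed_point_of_prime_not_dvd_card X fun h => hidx (h.trans hcard)
  refine ⟨θ.1, fun s q => ?_, θ.2⟩
  have h1 : (θ.1 : Q → ℂ) (restrictAct φ Q hQinv s⁻¹⁻¹ q) = (θ.1 : Q → ℂ) q :=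
    congrFun (congrArg (fun x : X => (x.1 : Q → ℂ)) (hθ s⁻¹)) q
  rwa [inv_inv] at h1

/-- Two conjugate invariant characters are conjugate by an element fixed modulo `Q`. -/
theorem exists_conj_fixed [Fact p.Prime] [Finite S] (hS : IsPGroup p S) [Fintype K]
    (φ : S →* MulAut K) (Q : Subgroup K) [Q.Normal] (hQinv : ∀ s, ∀ q ∈ Q, φ s q ∈ Q) (hidx : ¬ p ∣ Q.index)
    {θ : Q → ℂ} (hθ : IsClassFunction Q θ) {θ' : Q → ℂ} (h1 : IsInvariant (restrictAct φ Q hQinv) θ)
    (h2 : IsInvariant (restrictAct φ Q hQinv) θ') {g : K} (hg : θ' = Clifford.conjFun g θ) :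
    ∃ c : K, (∀ s, φ s c * c⁻¹ ∈ Q) ∧ θ' = Clifford.conjFun c θ := by
  classical
  set T := Clifford.inertia (G := K) θ
  set Y : Set K := {k | θ' = Clifford.conjFun k θ}
  have hYT : Nat.card Y = Nat.card T := by
    refine Nat.card_congr ((Equiv.mulRight g⁻¹).subtypeEquiv fun k => ?_)
    show θ' = Clifford.conjFun k θ ↔ Clifford.conjFun (k * g⁻¹) θ = θ
    rw [← Clifford.conjFun_mul, hg]
    constructor
    · intro h; rw [← h, Clifford.conjFun_mul, mul_inv_cancel, Clifford.conjFun_one]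
    · intro h
      conv_lhs => rw [← h]
      rw [Clifford.conjFun_mul, Clifford.conjFun_mul, inv_mul_cancel, mul_one]
  have hYQ : ∀ k : K, ∀ q ∈ Q, k * q ∈ Y ↔ k ∈ Y := by
    intro k q hq
    have hq' : Clifford.conjFun q (Clifford.conjFun k θ) = Clifford.conjFun k θ := by
      rw [Clifford.conjFun_mul]
      have hm : k * q * k⁻¹ ∈ T := Clifford.le_inertia hθ (Subgroup.Normal.conj_mem ‹Q.Normal› q hq k)
      rw [show k * q = k * q * k⁻¹ * k by group, ← Clifford.conjFun_mul, Clifford.mem_inertia.1 hm]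
    show θ' = Clifford.conjFun (k * q) θ ↔ θ' = Clifford.conjFun k θ
    rw [← Clifford.conjFun_mul, hq']
  set X : Set (K ⧸ Q) := {x | ∃ k ∈ Y, (k : K ⧸ Q) = x}
  have hYX : Y = QuotientGroup.mk ⁻¹' X := by
    ext k
    refine ⟨fun h => ⟨k, h, rfl⟩, fun h => ?_⟩
    obtain ⟨k', hk', e⟩ := h
    have := (hYQ k' (k'⁻¹ * k) (QuotientGroup.eq.1 e)).2 hk'
    simpa using this
  have hXdvd : Nat.card X ∣ Q.index := by
    have h : Nat.card T = Nat.card Q * Nat.card X := by
      rw [← hYT, hYX, Nat.card_congr (QuotientGroup.preimageMkEquivSubgroupProdSet Q X), Nat.card_prod]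
    have hd := Subgroup.card_subgroup_dvd_card T
    rw [h, ← Subgroup.card_mul_index Q] at hd
    exact Nat.dvd_of_mul_dvd_mul_left Nat.card_pos hd
  have hYinv : ∀ s, ∀ k ∈ Y, φ s k ∈ Y := by
    intro s k hk
    funext q
    obtain ⟨q₀, rfl⟩ := (restrictAct φ Q hQinv s).surjective q
    rw [h2, show θ' q₀ = Clifford.conjFun k θ q₀ from congrFun hk q₀, Clifford.conjFun_apply, Clifford.conjFun_apply,
      ← h1 s ⟨_, _⟩]
    refine congrArg θ (Subtype.ext ?_)
    simp [coe_restrictAct]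
  let act : S → X → X := fun s x => ⟨(φ s (x.2.choose) : K ⧸ Q),
    φ s x.2.choose, hYinv s _ x.2.choose_spec.1, rfl⟩
  have hact : ∀ s (x : X) (k : K), (k : K ⧸ Q) = x.1 → (act s x).1 = (φ s k : K ⧸ Q) := by
    intro s x k hk
    show ((φ s x.2.choose : K) : K ⧸ Q) = (φ s k : K ⧸ Q)
    rw [QuotientGroup.eq, ← map_inv, ← map_mul]
    exact hQinv s _ (QuotientGroup.eq.1 (x.2.choose_spec.2.trans hk.symm))
  letI : MulAction S X :=
    { smul := act
      one_smul := fun x => Subtype.ext (by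
        show (act 1 x).1 = _
        rw [hact 1 x _ x.2.choose_spec.2, map_one]
        exact x.2.choose_spec.2)
      mul_smul := fun s t x => Subtype.ext (by
        show (act (s * t) x).1 = (act s (act t x)).1
        rw [hact _ x _ x.2.choose_spec.2, hact s (act t x) (φ t x.2.choose) (hact t x _ x.2.choose_spec.2).symm,
          map_mul]
        rfl) }
  obtain ⟨x, hx⟩ := hS.nonempty_fixed_point_of_prime_not_dvd_card X fun h => hidx (h.trans hXdvd)
  obtain ⟨k, hk, hkx⟩ := x.2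
  refine ⟨k, fun s => ?_, hk⟩
  have e : ((φ s k : K) : K ⧸ Q) = (k : K ⧸ Q) :=
    (hact s x k hkx).symm.trans ((congrArg Subtype.val (hx s)).trans hkx.symm)
  rw [← QuotientGroup.eq_one_iff, QuotientGroup.mk_mul, QuotientGroup.mk_inv, e, mul_inv_cancel]

/-- The determinantal character of a conjugate. -/
theorem detChar_comp {A B : Type*} [Group A] [Group B] [Finite A] [Finite B] {θ : B → ℂ} (hθ : IsIrrCharacter B θ)
    (e : A ≃* B) : detChar (fun a => θ (e a)) = fun a => detChar θ (e a) := by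
  have h1 : IsIrrCharacter A (fun a => θ (e a)) := Clifford.isIrrCharacter_comp hθ e.toMonoidHom e.surjective
  obtain ⟨n, ρ, hρ, h⟩ := hθ
  rw [Clifford.detChar_eq h1 (ρ.comp e.toMonoidHom : Representation ℂ A (Fin n → ℂ))
      (funext fun a => congrFun h (e a)),
    Clifford.detChar_eq ⟨n, ρ, hρ, h⟩ ρ h]
  rfl

section Invariant

variable [Fact p.Prime] [Finite S] [Fintype K] (φ : S →* MulAut K)
  (Q : Subgroup K) [Q.Normal] [Fintype Q]

/-- An invariant extension of an invariant character. -/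
theorem exists_invariant_extension (hQp : IsPGroup p Q) (hQinv : ∀ s, ∀ q ∈ Q, φ s q ∈ Q) (hidx : ¬ p ∣ Q.index)
    {θ : Q → ℂ} (hθ : IsIrrCharacter Q θ) (hK : ∀ k : K, Clifford.conjFun k θ = θ)
    (hSθ : IsInvariant (restrictAct φ Q hQinv) θ) :
    ∃ η : K → ℂ, IsIrrCharacter K η ∧ (∀ q : Q, η q = θ q) ∧ IsInvariant φ η := by
  obtain ⟨a, ha⟩ := hQp.exists_card_eq
  set d := charDegree θ
  have hd : θ 1 = (d : ℂ) := apply_one (isCharacter_of_irr hθ)
  have hdQ : d ∣ Nat.card Q := degree_dvd (⟨θ, hθ⟩ : IrrCharacter Q)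
  have hcopQ : Nat.Coprime Q.index (Nat.card Q) := by
    rw [ha]
    exact (((Fact.out : p.Prime).coprime_iff_not_dvd).2 hidx).symm.pow_right a
  have hcop : Nat.Coprime Q.index d := hcopQ.of_dvd_right hdQ
  obtain ⟨lam, hlam⟩ := Clifford.exists_detHom hθ
  have hlamo : ∀ n : Q, lam n ^ Nat.card Q = 1 := fun n => by
    rw [← map_pow, pow_card_eq_one', map_one]
  have hlinv : ∀ (g : K) (n : Q), lam ⟨g * n * g⁻¹, Subgroup.Normal.conj_mem ‹Q.Normal› (n : K) n.2 g⟩ = lam n := by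
    intro g n
    have e := detChar_comp hθ (MulAut.conjNormal g : Q ≃* Q)
    rw [← Clifford.conjFun_eq_comp, hK g, hlam] at e
    rw [show lam n = _ from congrFun e n]
    exact congrArg lam (Subtype.ext (MulAut.conjNormal_apply g n).symm)
  obtain ⟨μ, hμ, hμo⟩ := Clifford.exists_coprime_linearExtension lam hlinv hlamo hcopQ
  have hμ' : ∀ n : Q, μ n = detChar θ n := fun n => by rw [hμ, hlam]
  obtain ⟨η₀, hη₀, hη₀r⟩ := Clifford.exists_charExtension_of_det hθ (fun g n => congrFun (hK g) n) hd hcop μ hμ'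
  obtain ⟨η, hη, hηr, hηd⟩ := Clifford.exists_extension_with_det hθ hd hcop hη₀ hη₀r μ hμ'
  refine ⟨η, hη, hηr, fun s k => ?_⟩
  have hirr : IsIrrCharacter K (fun x => η (φ s x)) :=
    Clifford.isIrrCharacter_comp hη (φ s).toMonoidHom (φ s).surjective
  have hres : ∀ q : Q, η (φ s q) = θ q := fun q => by
    rw [← coe_restrictAct φ Q hQinv s q, hηr, hSθ]
  have := Clifford.extension_unique_of_det (N := Q) hθ hd hη hηr hirr hres
    (a := Nat.card Q) (Nat.Coprime.mul_right hcop hcopQ) (fun g => by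
      rw [detChar_comp hη (φ s), hηd]
      simp only [hμo])
  exact congrFun this k

/-- The action on the quotient. -/
def quotAct (hQinv : ∀ s, ∀ q ∈ Q, φ s q ∈ Q) : S →* MulAut (K ⧸ Q) where
  toFun s := QuotientGroup.congr Q Q (φ s) (by
    ext x
    rw [Subgroup.mem_map]
    exact ⟨fun ⟨y, hy, e⟩ => e ▸ hQinv s y hy,
      fun hx => ⟨φ s⁻¹ x, hQinv s⁻¹ x hx, act_inv_apply φ s x⟩⟩)
  map_one' := MulEquiv.ext fun x => by
    induction x using QuotientGroup.induction_on with | _ k =>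
    show ((φ 1 k : K) : K ⧸ Q) = _
    rw [map_one]; rfl
  map_mul' s t := MulEquiv.ext fun x => by
    induction x using QuotientGroup.induction_on with | _ k =>
    show ((φ (s * t) k : K) : K ⧸ Q) = ((φ s (φ t k) : K) : K ⧸ Q)
    rw [map_mul]; rfl

theorem quotAct_mk (hQinv : ∀ s, ∀ q ∈ Q, φ s q ∈ Q) (s : S) (k : K) :
    quotAct φ Q hQinv s (k : K ⧸ Q) = ((φ s k : K) : K ⧸ Q) := rfl

/-- The correspondence above an invariant character stable in the whole group. -/
theorem corr_over_invariant (hS : IsPGroup p S) (hQp : IsPGroup p Q) (hQinv : ∀ s, ∀ q ∈ Q, φ s q ∈ Q)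
    (hidx : ¬ p ∣ Q.index) {θ : Q → ℂ} (hθ : IsIrrCharacter Q θ) (hK : ∀ k : K, Clifford.conjFun k θ = θ)
    (hSθ : IsInvariant (restrictAct φ Q hQinv) θ)
    {D : Type*} [Group D] [Fintype D] (ι : D →* K) (hι : Function.Injective ι)
    (hrange : ∀ k : K, (∀ s, φ s k * k⁻¹ ∈ Q) ↔ ∃ d, ι d = k) (j : Q →* D) (hj : ∀ q : Q, ι (j q) = q) :
    (∀ ψ : IrrCharacter K, IsInvariant φ (ψ : K → ℂ) → classInner (fun q : Q => (ψ : K → ℂ) q) θ ≠ 0 →
      ∃ η : IrrCharacter D, classInner (fun q : Q => (η : D → ℂ) (j q)) θ ≠ 0 ∧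
        (∀ s d d', ι d' = φ s (ι d) → (η : D → ℂ) d' = (η : D → ℂ) d) ∧
        ∀ η' : IrrCharacter D, classInner (fun q : Q => (η' : D → ℂ) (j q)) θ ≠ 0 →
          ∀ m : ℕ, classInner (fun d : D => (ψ : K → ℂ) (ι d)) (η' : D → ℂ) = m →
            (p ∣ m ↔ η' ≠ η) ∧ (η' = η → (m : ZMod p) = 1 ∨ (m : ZMod p) = -1)) ∧
    (∀ η : IrrCharacter D, classInner (fun q : Q => (η : D → ℂ) (j q)) θ ≠ 0 →
      ∃ ψ : IrrCharacter K, IsInvariant φ (ψ : K → ℂ) ∧ classInner (fun q : Q => (ψ : K → ℂ) q) θ ≠ 0 ∧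
        (∀ m : ℕ, classInner (fun d : D => (ψ : K → ℂ) (ι d)) (η : D → ℂ) = m → ¬ p ∣ m) ∧
        ∀ ψ' : IrrCharacter K, IsInvariant φ (ψ' : K → ℂ) → classInner (fun q : Q => (ψ' : K → ℂ) q) θ ≠ 0 →
          ∀ m : ℕ, classInner (fun d : D => (ψ' : K → ℂ) (ι d)) (η : D → ℂ) = m → ¬ p ∣ m → ψ' = ψ) := by
  classical
  obtain ⟨E, hE, hEr, hEinv⟩ := exists_invariant_extension φ Q hQp hQinv hidx hθ hK hSθ
  obtain ⟨M, hM⟩ := exists_modular (Fact.out : p.Prime)
  set φb := quotAct φ Q hQinv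
  have hpG : ¬ p ∣ Nat.card (K ⧸ Q) := hidx
  haveI : Fintype (K ⧸ Q) := Fintype.ofFinite _
  haveI : Fintype (fixedSub φb) := Fintype.ofFinite _
  -- the map onto the fixed points of the quotient
  have hπmem : ∀ d : D, ((ι d : K) : K ⧸ Q) ∈ fixedSub φb := fun d => by
    rw [mem_fixedSub]
    intro s
    rw [quotAct_mk, ← mul_inv_eq_one, ← QuotientGroup.mk_inv, ← QuotientGroup.mk_mul, QuotientGroup.eq_one_iff]
    exact (hrange _).2 ⟨d, rfl⟩ s
  let π : D →* fixedSub φb := ((QuotientGroup.mk' Q).comp ι).codRestrict _ hπmem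
  have hπ : Function.Surjective π := by
    rintro ⟨x, hx⟩
    induction x using QuotientGroup.induction_on with | _ k =>
    obtain ⟨d, hd⟩ := (hrange k).1 fun s => by
      have := hx s
      rwa [quotAct_mk, ← mul_inv_eq_one, ← QuotientGroup.mk_inv, ← QuotientGroup.mk_mul,
        QuotientGroup.eq_one_iff] at this
    exact ⟨d, Subtype.ext (by show ((ι d : K) : K ⧸ Q) = _; rw [hd])⟩
  -- Gallagher on both levels
  have h1K : IsIrrCharacter Q (fun _ => (1 : ℂ)) := isIrrCharacter_one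
  have hprodK : IsIrrCharacter Q ((fun _ : Q => (1 : ℂ)) * θ) := by
    rw [show (fun _ : Q => (1 : ℂ)) * θ = θ from one_mul θ]; exact hθ
  have hgK := Clifford.gallagher_bijOn (G := K) h1K (fun g => rfl) hprodK (isCharacter_of_irr hE) hEr
  rw [show (fun _ : Q => (1 : ℂ)) * θ = θ from one_mul θ] at hgK
  have hoverK : ∀ f : K → ℂ, IsClassFunction K f →
      (classInner (indFun Q θ) f ≠ 0 ↔ classInner (fun q : Q => f q) θ ≠ 0) := fun f hf => by
    rw [classInner_indFun Q θ hf, classInner_comm, ne_eq, map_eq_zero]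
  let N : Subgroup D := Q.comap ι
  haveI : N.Normal := Subgroup.Normal.comap ‹Q.Normal› ι
  haveI : Fintype N := Fintype.ofFinite N
  let e : N ≃* Q :=
    { toFun := fun n => ⟨ι n, n.2⟩
      invFun := fun q => ⟨j q, by show ι (j q) ∈ Q; rw [hj]; exact q.2⟩
      left_inv := fun n => Subtype.ext (hι (hj ⟨ι n, n.2⟩))
      right_inv := fun q => Subtype.ext (hj q)
      map_mul' := fun a b => Subtype.ext (map_mul ι _ _) }
  set θD : N → ℂ := fun n => θ (e n)
  have hθD : IsIrrCharacter N θD := Clifford.isIrrCharacter_comp hθ e.toMonoidHom e.surjective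
  have hoverD : ∀ f : D → ℂ, IsClassFunction D f →
      (classInner (indFun N θD) f ≠ 0 ↔ classInner (fun q : Q => f (j q)) θ ≠ 0) := fun f hf => by
    rw [classInner_indFun N θD hf, classInner_comm, ne_eq, map_eq_zero,
      ← Clifford.classInner_comp_equiv e (fun q : Q => f (j q)) θ]
    rw [show (fun h : N => f (j (e h))) = fun h : N => f h from
      funext fun h => congrArg f (congrArg Subtype.val (e.symm_apply_apply h))]
  have hprodD : IsIrrCharacter N ((fun _ : N => (1 : ℂ)) * θD) := by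
    rw [show (fun _ : N => (1 : ℂ)) * θD = θD from one_mul θD]; exact hθD
  have hgD := Clifford.gallagher_bijOn (G := D) (θ := θD) (isIrrCharacter_one (G := N)) (fun g => rfl) hprodD
    (isCharacter_comp (isCharacter_of_irr hE) ι) (fun n => hEr ⟨ι n, n.2⟩)
  rw [show (fun _ : N => (1 : ℂ)) * θD = θD from one_mul θD] at hgD
  -- the lifts
  have hliftD : ∀ γ : IrrCharacter (fixedSub φb),
      IsIrrCharacter D (fun d => (γ : fixedSub φb → ℂ) (π d) * E (ι d)) ∧
        classInner (fun q : Q => (γ : fixedSub φb → ℂ) (π (j q)) * E (ι (j q))) θ ≠ 0 := by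
    intro γ
    have hb : IsIrrCharacter D (fun d => (γ : fixedSub φb → ℂ) (π d)) :=
      Clifford.isIrrCharacter_comp γ.2 π hπ
    have hmem := hgD.mapsTo ⟨hb, (Clifford.mem_over_one_iff hb).2 fun n hn => by
      have : π n = 1 := Subtype.ext ((QuotientGroup.eq_one_iff _).2 hn)
      show (γ : fixedSub φb → ℂ) (π n) = (γ : fixedSub φb → ℂ) (π 1)
      rw [this, map_one]⟩
    exact ⟨hmem.1, (hoverD _ (isClassFunction (isCharacter_of_irr hmem.1))).1 hmem.2⟩
  let L : IrrCharacter (fixedSub φb) → IrrCharacter D := fun γ => ⟨_, (hliftD γ).1⟩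
  have hLinj : Function.Injective L := by
    intro γ γ' h
    have hb : ∀ δ : IrrCharacter (fixedSub φb), (fun d => (δ : fixedSub φb → ℂ) (π d)) ∈
        {β : D → ℂ | IsIrrCharacter D β ∧ classInner (indFun N fun _ => 1) β ≠ 0} := fun δ => by
      have hb : IsIrrCharacter D (fun d => (δ : fixedSub φb → ℂ) (π d)) := Clifford.isIrrCharacter_comp δ.2 π hπ
      exact ⟨hb, (Clifford.mem_over_one_iff hb).2 fun n hn => by
        have : π n = 1 := Subtype.ext ((QuotientGroup.eq_one_iff _).2 hn)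
        show (δ : fixedSub φb → ℂ) (π n) = (δ : fixedSub φb → ℂ) (π 1)
        rw [this, map_one]⟩
    have := hgD.injOn (hb γ) (hb γ') (congrArg Subtype.val h)
    refine Subtype.ext (funext fun x => ?_)
    obtain ⟨d, rfl⟩ := hπ x
    exact congrFun this d
  have hLsurj : ∀ η : IrrCharacter D, classInner (fun q : Q => (η : D → ℂ) (j q)) θ ≠ 0 → ∃ γ, L γ = η := by
    intro η hη
    obtain ⟨β, ⟨hβ, hβ1⟩, hβe⟩ := hgD.surjOn ⟨η.2, (hoverD _ (isClassFunction (isCharacter_of_irr η.2))).2 hη⟩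
    have hk := (Clifford.mem_over_one_iff hβ).1 hβ1
    obtain ⟨b, hb⟩ := exists_quotient_irr ⟨β, hβ⟩ N hk
    -- `D ⧸ N` is the fixed-point group
    have hker : π.ker = N := by
      ext d
      rw [MonoidHom.mem_ker, Subgroup.mem_comap, Subtype.ext_iff]
      exact QuotientGroup.eq_one_iff _
    let q : D ⧸ N ≃* fixedSub φb :=
      (QuotientGroup.quotientMulEquivOfEq hker.symm).trans (QuotientGroup.quotientKerEquivOfSurjective π hπ)
    refine ⟨⟨fun x => (b : D ⧸ N → ℂ) (q.symm x), Clifford.isIrrCharacter_comp b.2 q.symm.toMonoidHom q.symm.surjective⟩,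
      Subtype.ext (funext fun d => ?_)⟩
    show (b : D ⧸ N → ℂ) (q.symm (π d)) * E (ι d) = _
    rw [show π d = q (d : D ⧸ N) from rfl, q.symm_apply_apply, hb]
    exact congrFun hβe d
  -- a character of `K` over `θ` comes from the quotient
  have hfromK : ∀ ψ : IrrCharacter K, IsInvariant φ (ψ : K → ℂ) → classInner (fun q : Q => (ψ : K → ℂ) q) θ ≠ 0 →
      ∃ b : IrrCharacter (K ⧸ Q), IsInvariant φb (b : K ⧸ Q → ℂ) ∧
        ∀ k : K, (ψ : K → ℂ) k = (b : K ⧸ Q → ℂ) k * E k := by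
    intro ψ hψi hψ
    obtain ⟨β, hβ, hβe⟩ := hgK.surjOn ⟨ψ.2, (hoverK _ (isClassFunction (isCharacter_of_irr ψ.2))).2 hψ⟩
    obtain ⟨b, hb⟩ := exists_quotient_irr ⟨β, hβ.1⟩ Q ((Clifford.mem_over_one_iff hβ.1).1 hβ.2)
    refine ⟨b, fun s x => ?_, fun k => by rw [hb]; exact (congrFun hβe k).symm⟩
    induction x using QuotientGroup.induction_on with | _ k =>
    rw [quotAct_mk, hb, hb]
    have hirr : IsIrrCharacter K (fun y => β (φ s y)) :=
      Clifford.isIrrCharacter_comp hβ.1 (φ s).toMonoidHom (φ s).surjective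
    have hmem : (fun y => β (φ s y)) ∈ {β : K → ℂ | IsIrrCharacter K β ∧ classInner (indFun Q fun _ => 1) β ≠ 0} :=
      ⟨hirr, (Clifford.mem_over_one_iff hirr).2 fun n hn => by
        show β (φ s n) = β (φ s 1)
        rw [map_one]
        exact (Clifford.mem_over_one_iff hβ.1).1 hβ.2 _ (hQinv s n hn)⟩
    have := hgK.injOn hmem hβ (funext fun y => by
      show β (φ s y) * E y = β y * E y
      have h1 : β (φ s y) * E (φ s y) = (ψ : K → ℂ) (φ s y) := congrFun hβe (φ s y)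
      rw [hEinv s y, hψi s y] at h1
      exact h1.trans (congrFun hβe y).symm)
    exact congrFun this k
  have hmult : ∀ (ψ : IrrCharacter K) (b : IrrCharacter (K ⧸ Q)),
      (∀ k : K, (ψ : K → ℂ) k = (b : K ⧸ Q → ℂ) k * E k) → ∀ γ : IrrCharacter (fixedSub φb),
      classInner (fun d : D => (ψ : K → ℂ) (ι d)) (L γ : D → ℂ) =
        classInner (fun c : fixedSub φb => (b : K ⧸ Q → ℂ) (c : K ⧸ Q)) (γ : fixedSub φb → ℂ) := by
    intro ψ b hb γ
    haveI : Fintype (IrrCharacter (fixedSub φb)) := @Fintype.ofFinite _ finite_irrCharacter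
    have hB := isCharacter_restrict (isCharacter_of_irr b.2) (fixedSub φb)
    have hexp := classFun_expand (isClassFunction hB)
    have hfun : (fun d : D => (ψ : K → ℂ) (ι d)) = ∑ δ : IrrCharacter (fixedSub φb),
        classInner (fun c : fixedSub φb => (b : K ⧸ Q → ℂ) (c : K ⧸ Q)) (δ : fixedSub φb → ℂ) • (L δ : D → ℂ) := by
      funext d
      have := congrFun hexp (π d)
      rw [Finset.sum_apply] at this ⊢
      rw [hb, show ((ι d : K) : K ⧸ Q) = ((π d : fixedSub φb) : K ⧸ Q) from rfl, this, Finset.sum_mul]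
      exact Finset.sum_congr rfl fun δ _ => mul_assoc _ _ _
    rw [hfun, classInner_sum_left, Finset.sum_eq_single γ]
    · rw [classInner_smul_left, classInner_self (L γ).2, mul_one]
    · intro δ _ hδ
      rw [classInner_smul_left, classInner_ne (L δ).2 (L γ).2 (fun h => hδ (hLinj (Subtype.ext h))), mul_zero]
    · exact fun h => absurd (Finset.mem_univ _) h
  constructor
  · intro ψ hψi hψ
    obtain ⟨b, hbi, hb⟩ := hfromK ψ hψi hψ
    obtain ⟨γ, hγ⟩ := corr_exists_right φb hM hS hpG hbi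
    refine ⟨L γ, (hliftD γ).2, fun s d d' hd' => ?_, fun η' hη' m hm => ?_⟩
    · show (γ : fixedSub φb → ℂ) (π d') * E (ι d') = (γ : fixedSub φb → ℂ) (π d) * E (ι d)
      rw [hd', hEinv, show π d' = π d from Subtype.ext (by
        show ((ι d' : K) : K ⧸ Q) = _
        rw [hd', ← quotAct_mk φ Q hQinv]
        exact mem_fixedSub.1 (hπmem d) s)]
    · obtain ⟨γ', rfl⟩ := hLsurj η' hη'
      rw [hmult ψ b hb γ'] at hm
      have hiff : Corr φb M b γ' ↔ γ' = γ :=
        ⟨fun h => corr_unique φb hM hS hpG hbi h hγ, fun h => h ▸ hγ⟩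
      refine ⟨?_, fun he => ?_⟩
      · rw [mult_dvd_iff φb hM hS hpG hbi γ' hm, hiff]
        exact not_congr hLinj.eq_iff.symm
      · rcases mult_sq φb hM hS hpG hbi (hiff.2 (hLinj he)) hm with h | h
        · left; rw [← ZMod.intCast_eq_intCast_iff] at h; simpa using h
        · right; rw [← ZMod.intCast_eq_intCast_iff] at h; simpa using h
  · intro η hη
    obtain ⟨γ, rfl⟩ := hLsurj η hη
    obtain ⟨b, hbi, hbc⟩ := corr_exists_left φb hM hS hpG γ
    have hbirr : IsIrrCharacter K (fun k : K => (b : K ⧸ Q → ℂ) k) :=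
      Clifford.isIrrCharacter_comp b.2 (QuotientGroup.mk' Q) (QuotientGroup.mk'_surjective Q)
    have hmem := hgK.mapsTo ⟨hbirr, (Clifford.mem_over_one_iff hbirr).2 fun n hn => by
      show (b : K ⧸ Q → ℂ) (n : K ⧸ Q) = (b : K ⧸ Q → ℂ) ((1 : K) : K ⧸ Q)
      rw [(QuotientGroup.eq_one_iff n).2 hn]; rfl⟩
    refine ⟨⟨_, hmem.1⟩, fun s k => ?_, (hoverK _ (isClassFunction (isCharacter_of_irr hmem.1))).1 hmem.2,
      fun m hm hdvd => ?_, fun ψ' hi' ho' m hm hdvd => ?_⟩
    · show (b : K ⧸ Q → ℂ) ((φ s k : K) : K ⧸ Q) * E (φ s k) = (b : K ⧸ Q → ℂ) k * E k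
      rw [← quotAct_mk φ Q hQinv, hbi, hEinv]
    · rw [hmult ⟨_, hmem.1⟩ b (fun k => rfl) γ] at hm
      exact (mult_dvd_iff φb hM hS hpG hbi γ hm).1 hdvd hbc
    · obtain ⟨b', hbi', hb'⟩ := hfromK ψ' hi' ho'
      rw [hmult ψ' b' hb' γ] at hm
      have hc' : Corr φb M b' γ := not_not.1 (fun h => hdvd ((mult_dvd_iff φb hM hS hpG hbi' γ hm).2 h))
      obtain rfl := corr_injective φb hM hS hpG hbi' hbi hc' hbc
      exact Subtype.ext (funext hb')

end Invariant

section Main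

variable [Fact p.Prime] [Finite S] [Fintype K] (φ : S →* MulAut K)
  (Q : Subgroup K) [Q.Normal] [Fintype Q] (C : Subgroup K) [Fintype C]

/-- The global correspondence. -/
theorem corr_main (hS : IsPGroup p S) (hQp : IsPGroup p Q) (hidx : ¬ p ∣ Q.index)
    (hC : ∀ k, k ∈ C ↔ ∀ s, φ s k * k⁻¹ ∈ Q) :
    (∀ χ : IrrCharacter K, IsInvariant φ (χ : K → ℂ) →
      ∃ ξ : IrrCharacter C, (∀ (s : S) (c c' : C), (c' : K) = φ s c → (ξ : C → ℂ) c' = (ξ : C → ℂ) c) ∧
        ∀ ξ' : IrrCharacter C, (∀ (s : S) (c c' : C), (c' : K) = φ s c → (ξ' : C → ℂ) c' = (ξ' : C → ℂ) c) →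
          ∀ m : ℕ, classInner (fun c : C => (χ : K → ℂ) c) (ξ' : C → ℂ) = m →
            (p ∣ m ↔ ξ' ≠ ξ) ∧ (ξ' = ξ → (m : ZMod p) = 1 ∨ (m : ZMod p) = -1)) ∧
    (∀ ξ : IrrCharacter C, (∀ (s : S) (c c' : C), (c' : K) = φ s c → (ξ : C → ℂ) c' = (ξ : C → ℂ) c) →
      ∃! χ : IrrCharacter K, IsInvariant φ (χ : K → ℂ) ∧
        ∀ m : ℕ, classInner (fun c : C => (χ : K → ℂ) c) (ξ : C → ℂ) = m → ¬ p ∣ m) := by
  classical
  have hp : p.Prime := Fact.out
  have hQinv : ∀ s, ∀ q ∈ Q, φ s q ∈ Q := fun s q hq => act_mem hp Q hQp hidx (φ s) hq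
  have hQC : Q ≤ C := fun q hq => (hC q).2 fun s => Q.mul_mem (hQinv s q hq) (Q.inv_mem hq)
  have hCinv : ∀ s, ∀ c ∈ C, φ s c ∈ C := by
    intro s c hc
    rw [hC] at hc ⊢
    intro t
    have h1 := hc (t * s)
    have h2 := hc s
    rw [show φ t (φ s c) * (φ s c)⁻¹ = φ (t * s) c * c⁻¹ * (φ s c * c⁻¹)⁻¹ by
      rw [map_mul, MulAut.mul_apply]; group]
    exact Q.mul_mem h1 (Q.inv_mem h2)
  set Qc : Subgroup C := Q.subgroupOf C
  haveI : Fintype Qc := Fintype.ofFinite Qc
  let φC := restrictAct φ C hCinv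
  have hQcinv : ∀ s, ∀ q ∈ Qc, φC s q ∈ Qc := fun s q hq => hQinv s _ hq
  have hQcidx : ¬ p ∣ Qc.index := fun h => hidx (h.trans (Subgroup.relIndex_dvd_index_of_normal Q C))
  let eC : Qc ≃* Q := Subgroup.subgroupOfEquivOfLe hQC
  -- an invariant constituent of an invariant character of `C`
  have hconstC : ∀ ξ : IrrCharacter C, (∀ (s : S) (c c' : C), (c' : K) = φ s c → (ξ : C → ℂ) c' = (ξ : C → ℂ) c) →
      ∃ θ : IrrCharacter Q, IsInvariant (restrictAct φ Q hQinv) (θ : Q → ℂ) ∧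
        classInner (fun q : Q => (ξ : C → ℂ) ⟨(q : K), hQC q.2⟩) (θ : Q → ℂ) ≠ 0 := by
    intro ξ hξ
    obtain ⟨θ, hθi, hθn⟩ := exists_invariant_constituent hS φC Qc hQcinv hQcidx ξ.2 (fun s c => hξ s c _ rfl)
    refine ⟨⟨fun q => (θ : Qc → ℂ) (eC.symm q), Clifford.isIrrCharacter_comp θ.2 eC.symm.toMonoidHom eC.symm.surjective⟩,
      fun s q => hθi s (eC.symm q), ?_⟩
    rw [← Clifford.classInner_comp_equiv eC.symm (fun m : Qc => (ξ : C → ℂ) m) (θ : Qc → ℂ)] at hθn
    exact hθn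
  -- everything over a fixed invariant character `θ`
  have key : ∀ θ : IrrCharacter Q, IsInvariant (restrictAct φ Q hQinv) (θ : Q → ℂ) →
      (∀ χ : IrrCharacter K, IsInvariant φ (χ : K → ℂ) → classInner (fun q : Q => (χ : K → ℂ) q) (θ : Q → ℂ) ≠ 0 →
        ∃ ξ : IrrCharacter C, (∀ (s : S) (c c' : C), (c' : K) = φ s c → (ξ : C → ℂ) c' = (ξ : C → ℂ) c) ∧
          classInner (fun q : Q => (ξ : C → ℂ) ⟨(q : K), hQC q.2⟩) (θ : Q → ℂ) ≠ 0 ∧
          ∀ ξ' : IrrCharacter C, classInner (fun q : Q => (ξ' : C → ℂ) ⟨(q : K), hQC q.2⟩) (θ : Q → ℂ) ≠ 0 →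
            ∀ m : ℕ, classInner (fun c : C => (χ : K → ℂ) c) (ξ' : C → ℂ) = m →
              (p ∣ m ↔ ξ' ≠ ξ) ∧ (ξ' = ξ → (m : ZMod p) = 1 ∨ (m : ZMod p) = -1)) ∧
      (∀ ξ : IrrCharacter C, classInner (fun q : Q => (ξ : C → ℂ) ⟨(q : K), hQC q.2⟩) (θ : Q → ℂ) ≠ 0 →
        ∃ χ : IrrCharacter K, IsInvariant φ (χ : K → ℂ) ∧
          (∀ m : ℕ, classInner (fun c : C => (χ : K → ℂ) c) (ξ : C → ℂ) = m → ¬ p ∣ m) ∧
          ∀ χ' : IrrCharacter K, IsInvariant φ (χ' : K → ℂ) → classInner (fun q : Q => (χ' : K → ℂ) q) (θ : Q → ℂ) ≠ 0 →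
            ∀ m : ℕ, classInner (fun c : C => (χ' : K → ℂ) c) (ξ : C → ℂ) = m → ¬ p ∣ m → χ' = χ) := by
    intro θ hθi
    set T := Clifford.inertia (G := K) (θ : Q → ℂ) with hTdef
    haveI : Fintype T := Fintype.ofFinite T
    have hQT : Q ≤ T := Clifford.le_inertia (isClassFunction (isCharacter_of_irr θ.2))
    have hTinv : ∀ s, ∀ t ∈ T, φ s t ∈ T := by
      intro s t ht
      rw [hTdef, Clifford.mem_inertia] at ht ⊢
      funext q
      obtain ⟨q₀, rfl⟩ := (restrictAct φ Q hQinv s).surjective q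
      rw [hθi, Clifford.conjFun_apply]
      conv_rhs => rw [← congrFun ht q₀, Clifford.conjFun_apply, ← hθi s ⟨_, _⟩]
      refine congrArg _ (Subtype.ext ?_)
      simp [coe_restrictAct]
    set Qt : Subgroup T := Q.subgroupOf T
    haveI : Fintype Qt := Fintype.ofFinite Qt
    let eT : Qt ≃* Q := Subgroup.subgroupOfEquivOfLe hQT
    let φT := restrictAct φ T hTinv
    have hQtinv : ∀ s, ∀ q ∈ Qt, φT s q ∈ Qt := fun s q hq => hQinv s _ hq
    have hQtidx : ¬ p ∣ Qt.index := fun h => hidx (h.trans (Subgroup.relIndex_dvd_index_of_normal Q T))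
    have hQtp : IsPGroup p Qt := hQp.of_equiv eT.symm
    set θT : Qt → ℂ := fun q => (θ : Q → ℂ) (eT q)
    have hθT : IsIrrCharacter Qt θT := Clifford.isIrrCharacter_comp θ.2 eT.toMonoidHom eT.surjective
    have hθTK : ∀ t : T, Clifford.conjFun t θT = θT := fun t => funext fun q => congrFun t.2 (eT q)
    have hθTi : IsInvariant (restrictAct φT Qt hQtinv) θT := fun s q => hθi s (eT q)
    set Dc : Subgroup C := T.subgroupOf C
    haveI : Fintype Dc := Fintype.ofFinite Dc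
    let ι : Dc →* T := ((C.subtype).comp Dc.subtype).codRestrict T (fun d => d.2)
    have hι : Function.Injective ι := fun a b h => Subtype.ext (Subtype.ext (congrArg (fun x : T => (x : K)) h))
    have hrange : ∀ t : T, (∀ s, φT s t * t⁻¹ ∈ Qt) ↔ ∃ d, ι d = t := fun t =>
      ⟨fun h => ⟨⟨⟨t, (hC _).2 fun s => h s⟩, t.2⟩, Subtype.ext rfl⟩,
        fun ⟨d, hd⟩ s => hd ▸ (hC _).1 d.1.2 s⟩
    let j : Qt →* Dc :=
      { toFun := fun q => ⟨⟨((q : T) : K), hQC q.2⟩, (q : T).2⟩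
        map_one' := rfl
        map_mul' := fun _ _ => rfl }
    obtain ⟨hA, hB⟩ := corr_over_invariant φT Qt hS hQtp hQtinv hQtidx hθT hθTK hθTi ι hι hrange j (fun q => rfl)
    have hover : ∀ f : T → ℂ, classInner (fun q : Qt => f q) θT =
        classInner (fun q : Q => f ⟨(q : K), hQT q.2⟩) (θ : Q → ℂ) := fun f =>
      Clifford.classInner_comp_equiv eT (fun q : Q => f ⟨(q : K), hQT q.2⟩) (θ : Q → ℂ)
    have hoverD : ∀ f : Dc → ℂ, classInner (fun q : Qt => f (j q)) θT =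
        classInner (fun q : Q => f ⟨⟨(q : K), hQC q.2⟩, hQT q.2⟩) (θ : Q → ℂ) := fun f =>
      Clifford.classInner_comp_equiv eT (fun q : Q => f ⟨⟨(q : K), hQC q.2⟩, hQT q.2⟩) (θ : Q → ℂ)
    -- the Clifford correspondence inside `C`
    set θC : Qc → ℂ := fun q => (θ : Q → ℂ) (eC q)
    have hθC : IsIrrCharacter Qc θC := Clifford.isIrrCharacter_comp θ.2 eC.toMonoidHom eC.surjective
    have hDc : Dc = Clifford.inertia (G := C) θC := by
      ext c
      constructor
      · intro h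
        exact funext fun q => congrFun (h : Clifford.conjFun (c : K) (θ : Q → ℂ) = θ) (eC q)
      · intro h
        show Clifford.conjFun (c : K) (θ : Q → ℂ) = θ
        funext q
        obtain ⟨q₀, rfl⟩ := eC.surjective q
        exact congrFun (h : Clifford.conjFun c θC = θC) q₀
    have hQcD : Qc ≤ Dc := fun q hq => hQT hq
    have hoverC : ∀ f : C → ℂ, classInner (fun q : Qc => f q) θC =
        classInner (fun q : Q => f ⟨(q : K), hQC q.2⟩) (θ : Q → ℂ) := fun f =>
      Clifford.classInner_comp_equiv eC (fun q : Q => f ⟨(q : K), hQC q.2⟩) (θ : Q → ℂ)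
    have hoverCD : ∀ f : Dc → ℂ, classInner (fun q : Qc => f ⟨(q : C), hQcD q.2⟩) θC =
        classInner (fun q : Q => f ⟨⟨(q : K), hQC q.2⟩, hQT q.2⟩) (θ : Q → ℂ) := fun f =>
      Clifford.classInner_comp_equiv eC (fun q : Q => f ⟨⟨(q : K), hQC q.2⟩, hQT q.2⟩) (θ : Q → ℂ)
    have hupC : ∀ η : IrrCharacter Dc, classInner (fun q : Qt => (η : Dc → ℂ) (j q)) θT ≠ 0 →
        IsIrrCharacter C (indFun Dc (η : Dc → ℂ)) ∧
          classInner (fun q : Q => indFun Dc (η : Dc → ℂ) ⟨(q : K), hQC q.2⟩) (θ : Q → ℂ) ≠ 0 := by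
      intro η hη
      rw [hoverD, ← hoverCD] at hη
      obtain ⟨h1, h2⟩ := Clifford.indFun_inertia_irr hθC Dc hDc hQcD η.2 hη
      refine ⟨h1, ?_⟩
      rw [← hoverC, h2]
      exact hη
    have hdownC : ∀ ξ : IrrCharacter C, classInner (fun q : Q => (ξ : C → ℂ) ⟨(q : K), hQC q.2⟩) (θ : Q → ℂ) ≠ 0 →
        ∃ η : IrrCharacter Dc, classInner (fun q : Qt => (η : Dc → ℂ) (j q)) θT ≠ 0 ∧
          indFun Dc (η : Dc → ℂ) = (ξ : C → ℂ) := by
      intro ξ hξ
      rw [← hoverC] at hξ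
      obtain ⟨η, hη, he, hm, -⟩ := Clifford.exists_inertia_correspondent ξ.2 hθC hξ Dc hDc hQcD
      refine ⟨⟨η, hη⟩, ?_, he⟩
      show classInner (fun q : Qt => η (j q)) θT ≠ 0
      rw [hoverD, ← hoverCD, hm]
      exact hξ
    -- the correspondent of an invariant character of `K`
    have hdownK : ∀ χ : IrrCharacter K, IsInvariant φ (χ : K → ℂ) →
        classInner (fun q : Q => (χ : K → ℂ) q) (θ : Q → ℂ) ≠ 0 →
        ∃ ψ : IrrCharacter T, IsInvariant φT (ψ : T → ℂ) ∧ classInner (fun q : Qt => (ψ : T → ℂ) q) θT ≠ 0 ∧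
          indFun T (ψ : T → ℂ) = (χ : K → ℂ) := by
      intro χ hχi hχ
      obtain ⟨ψ, hψ, he, hm, -⟩ := Clifford.exists_inertia_correspondent χ.2 θ.2 hχ T rfl hQT
      have hne : classInner (fun q : Qt => ψ q) θT ≠ 0 := by rw [hover, hm]; exact hχ
      refine ⟨⟨ψ, hψ⟩, fun s t => ?_, hne, he⟩
      have hirr : IsIrrCharacter T (fun x => ψ (φT s x)) :=
        Clifford.isIrrCharacter_comp hψ (φT s).toMonoidHom (φT s).surjective
      have hne' : classInner (fun q : Q => ψ (φT s ⟨(q : K), hQT q.2⟩)) (θ : Q → ℂ) ≠ 0 := by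
        rw [hover, ← Clifford.classInner_comp_equiv (restrictAct φ Q hQinv s)] at hne
        rw [show (θ : Q → ℂ) = fun q => (θ : Q → ℂ) (restrictAct φ Q hQinv s q) from (funext (hθi s)).symm]
        exact hne
      have hψne : classInner (fun q : Q => ψ ⟨(q : K), hQT q.2⟩) (θ : Q → ℂ) ≠ 0 := by rwa [hover] at hne
      have hind : indFun T (fun x => ψ (φT s x)) = indFun T ψ := by
        funext k
        have h1 : indFun T ψ (φ s k) = indFun T ψ k := by rw [he]; exact hχi s k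
        rw [← h1]
        simp only [indFun]
        congr 1
        refine Fintype.sum_equiv (φ s).toEquiv _ _ fun x => ?_
        show extendByZero T _ (x⁻¹ * k * x) = extendByZero T ψ ((φ s x)⁻¹ * φ s k * φ s x)
        rw [← map_inv, ← map_mul, ← map_mul]
        by_cases hx : x⁻¹ * k * x ∈ T
        · rw [show x⁻¹ * k * x = ((⟨_, hx⟩ : T) : K) from rfl, extendByZero_coe,
            show φ s ((⟨_, hx⟩ : T) : K) = ((φT s ⟨_, hx⟩ : T) : K) from rfl, extendByZero_coe]
        · rw [extendByZero_of_not_mem T _ hx, extendByZero_of_not_mem T]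
          exact fun h => hx (by simpa [act_apply_inv] using hTinv s⁻¹ _ h)
      exact congrFun (Clifford.indFun_inertia_inj θ.2 T rfl hQT hirr hψ hne' hψne hind) t
    have hupK : ∀ ψ : IrrCharacter T, IsInvariant φT (ψ : T → ℂ) → classInner (fun q : Qt => (ψ : T → ℂ) q) θT ≠ 0 →
        IsIrrCharacter K (indFun T (ψ : T → ℂ)) ∧ IsInvariant φ (indFun T (ψ : T → ℂ)) ∧
          classInner (fun q : Q => indFun T (ψ : T → ℂ) q) (θ : Q → ℂ) ≠ 0 := by
      intro ψ hψi hψ
      rw [hover] at hψ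
      obtain ⟨h1, h2⟩ := Clifford.indFun_inertia_irr θ.2 T rfl hQT ψ.2 hψ
      refine ⟨h1, fun s k => ?_, by rw [h2]; exact hψ⟩
      simp only [indFun]
      congr 1
      refine (Fintype.sum_equiv (φ s).toEquiv _ _ fun x => ?_).symm
      show extendByZero T _ (x⁻¹ * k * x) = extendByZero T _ ((φ s x)⁻¹ * φ s k * φ s x)
      rw [← map_inv, ← map_mul, ← map_mul]
      by_cases hx : x⁻¹ * k * x ∈ T
      · rw [show x⁻¹ * k * x = ((⟨_, hx⟩ : T) : K) from rfl, extendByZero_coe,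
          show φ s ((⟨_, hx⟩ : T) : K) = ((φT s ⟨_, hx⟩ : T) : K) from rfl, extendByZero_coe, hψi]
      · rw [extendByZero_of_not_mem T _ hx, extendByZero_of_not_mem T]
        exact fun h => hx (by simpa [act_apply_inv] using hTinv s⁻¹ _ h)
    -- the multiplicities agree
    have hmult : ∀ (ψ : IrrCharacter T) (η : IrrCharacter Dc),
        classInner (fun q : Qt => (ψ : T → ℂ) q) θT ≠ 0 → classInner (fun q : Qt => (η : Dc → ℂ) (j q)) θT ≠ 0 →
        classInner (fun c : C => indFun T (ψ : T → ℂ) c) (indFun Dc (η : Dc → ℂ)) =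
          classInner (fun d : Dc => (ψ : T → ℂ) (ι d)) (η : Dc → ℂ) := by
      intro ψ η hψ hη
      have hI := isCharacter_indFun T (isCharacter_of_irr ψ.2)
      rw [classInner_indFun' Dc (η : Dc → ℂ) (isClassFunction (isCharacter_restrict hI C))]
      rw [hover] at hψ
      obtain ⟨hirr, hm⟩ := Clifford.indFun_inertia_irr θ.2 T rfl hQT ψ.2 hψ
      have hc : classInner (fun t : T => indFun T (ψ : T → ℂ) t) (ψ : T → ℂ) ≠ 0 := by
        rw [classInner_comm, ← classInner_indFun T (ψ : T → ℂ) (isClassFunction hI), classInner_self hirr, map_one]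
        exact one_ne_zero
      obtain ⟨R, hR, hsum, hsplit⟩ := Clifford.classInner_restrict_split hQT hI ψ.2 hc (θ : Q → ℂ)
      rw [hm, left_eq_add] at hsplit
      have hRD : classInner (fun d : Dc => R (ι d)) (η : Dc → ℂ) = 0 := by
        by_contra hne
        obtain ⟨R', hR', hs'⟩ := Clifford.exists_eq_add_of_constituent (CharBasics.isCharacter_comp hR ι) η.2 hne
        have hmul : classInner (fun q : Q => R ⟨(q : K), hQT q.2⟩) (θ : Q → ℂ) ≠ 0 := by
          rw [← hover]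
          rw [show (fun q : Qt => R (q : T)) = fun q : Qt => R (ι (j q)) from rfl,
            show (fun q : Qt => R (ι (j q))) = (fun q : Qt => (η : Dc → ℂ) (j q)) + fun q : Qt => R' (j q) from
              funext fun q => congrFun hs' (j q)]
          obtain ⟨a, ha⟩ := classInner_characters_nat (CharBasics.isCharacter_comp (isCharacter_of_irr η.2) j)
            (isCharacter_of_irr hθT)
          obtain ⟨b, hb⟩ := classInner_characters_nat (CharBasics.isCharacter_comp hR' j) (isCharacter_of_irr hθT)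
          rw [classInner_add_left, ha, hb, ← Nat.cast_add, Nat.cast_ne_zero]
          rw [ha, Nat.cast_ne_zero] at hη
          omega
        exact hmul hsplit
      rw [show (fun d : Dc => indFun T (ψ : T → ℂ) ((d : C) : K)) =
          (fun d : Dc => (ψ : T → ℂ) (ι d)) + fun d : Dc => R (ι d) from funext fun d => congrFun hsum (ι d),
        classInner_add_left, hRD, add_zero]
    constructor
    · intro χ hχi hχ
      obtain ⟨ψ, hψi, hψ, hψe⟩ := hdownK χ hχi hχ
      obtain ⟨η, hη, hηi, huniq⟩ := hA ψ hψi hψ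
      refine ⟨⟨_, (hupC η hη).1⟩, fun s c c' hc => ?_, (hupC η hη).2, fun ξ' hξ' m hm => ?_⟩
      · show indFun Dc (η : Dc → ℂ) c' = indFun Dc (η : Dc → ℂ) c
        obtain rfl : c' = φC s c := Subtype.ext hc
        simp only [indFun]
        congr 1
        refine (Fintype.sum_equiv (φC s).toEquiv _ _ fun x => ?_).symm
        show extendByZero Dc _ (x⁻¹ * c * x) = extendByZero Dc _ ((φC s x)⁻¹ * φC s c * φC s x)
        rw [← map_inv, ← map_mul, ← map_mul]
        by_cases hx : x⁻¹ * c * x ∈ Dc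
        · have hx' : φC s (x⁻¹ * c * x) ∈ Dc := hTinv s _ hx
          exact (extendByZero_coe Dc (η : Dc → ℂ) ⟨_, hx⟩).trans
            ((hηi s ⟨_, hx⟩ ⟨_, hx'⟩ (Subtype.ext rfl)).symm.trans (extendByZero_coe Dc (η : Dc → ℂ) ⟨_, hx'⟩).symm)
        · rw [extendByZero_of_not_mem Dc _ hx, extendByZero_of_not_mem Dc]
          intro h
          refine hx ?_
          have h2 : φ s⁻¹ ((φC s (x⁻¹ * c * x) : C) : K) ∈ T := hTinv s⁻¹ _ h
          rw [show ((φC s (x⁻¹ * c * x) : C) : K) = φ s ((x⁻¹ * c * x : C) : K) from rfl, act_apply_inv] at h2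
          exact h2
      · obtain ⟨η', hη', he'⟩ := hdownC ξ' hξ'
        have hm' : classInner (fun d : Dc => (ψ : T → ℂ) (ι d)) (η' : Dc → ℂ) = m := by
          rw [← hmult ψ η' hψ hη', hψe, he']; exact hm
        obtain ⟨h1, h2⟩ := huniq η' hη' m hm'
        have hiff : ξ' = ⟨_, (hupC η hη).1⟩ ↔ η' = η := by
          constructor
          · intro h
            refine Subtype.ext (Clifford.indFun_inertia_inj hθC Dc hDc hQcD η'.2 η.2 ?_ ?_
              (he'.trans (congrArg Subtype.val h)))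
            · rw [hoverCD, ← hoverD]; exact hη'
            · rw [hoverCD, ← hoverD]; exact hη
          · intro h; subst h; exact Subtype.ext he'.symm
        exact ⟨h1.trans (not_congr hiff).symm, fun h => h2 (hiff.1 h)⟩
    · intro ξ hξ
      obtain ⟨η, hη, he⟩ := hdownC ξ hξ
      obtain ⟨ψ, hψi, hψ, hnd, huniq⟩ := hB η hη
      obtain ⟨h1, h2, -⟩ := hupK ψ hψi hψ
      refine ⟨⟨_, h1⟩, h2, fun m hm => hnd m ?_, fun χ' hi' ho' m hm hdvd => ?_⟩
      · rw [← hmult ψ η hψ hη, he]; exact hm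
      · obtain ⟨ψ', hψ'i, hψ', hψ'e⟩ := hdownK χ' hi' ho'
        have : ψ' = ψ := huniq ψ' hψ'i hψ' m (by rw [← hmult ψ' η hψ' hη, hψ'e, he]; exact hm) hdvd
        exact Subtype.ext (by rw [← hψ'e, this])
  -- a constituent of `ξ` is a constituent of `χ`
  have hbelow : ∀ (χ : IrrCharacter K) (ξ : IrrCharacter C) (θ : IrrCharacter Q),
      classInner (fun c : C => (χ : K → ℂ) c) (ξ : C → ℂ) ≠ 0 →
      classInner (fun q : Q => (ξ : C → ℂ) ⟨(q : K), hQC q.2⟩) (θ : Q → ℂ) ≠ 0 →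
      classInner (fun q : Q => (χ : K → ℂ) q) (θ : Q → ℂ) ≠ 0 := by
    intro χ ξ θ h1 h2
    obtain ⟨R, hR, hs⟩ := Clifford.exists_eq_add_of_constituent
      (CharBasics.isCharacter_restrict (isCharacter_of_irr χ.2) C) ξ.2 h1
    obtain ⟨a, ha⟩ := classInner_characters_nat
      (CharBasics.isCharacter_comp (isCharacter_of_irr ξ.2) (Subgroup.inclusion hQC)) (isCharacter_of_irr θ.2)
    obtain ⟨b, hb⟩ := classInner_characters_nat
      (CharBasics.isCharacter_comp hR (Subgroup.inclusion hQC)) (isCharacter_of_irr θ.2)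
    change classInner (fun q : Q => (ξ : C → ℂ) ⟨(q : K), hQC q.2⟩) (θ : Q → ℂ) = a at ha
    rw [show (fun q : Q => (χ : K → ℂ) q) = (fun q : Q => (ξ : C → ℂ) (Subgroup.inclusion hQC q)) +
        fun q : Q => R (Subgroup.inclusion hQC q) from funext fun q => congrFun hs (Subgroup.inclusion hQC q),
      classInner_add_left, hb, show classInner (fun q : Q => (ξ : C → ℂ) (Subgroup.inclusion hQC q)) (θ : Q → ℂ) = a
        from ha, ← Nat.cast_add, Nat.cast_ne_zero]
    rw [ha, Nat.cast_ne_zero] at h2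
    omega
  constructor
  · intro χ hχ
    obtain ⟨θ, hθ, hθn⟩ := exists_invariant_constituent hS φ Q hQinv hidx χ.2 hχ
    obtain ⟨ξ, hξi, hξo, hξ⟩ := (key θ hθ).1 χ hχ hθn
    refine ⟨ξ, hξi, fun ξ' hξ'i m hm => ?_⟩
    obtain ⟨θ', hθ', hθ'n⟩ := hconstC ξ' hξ'i
    by_cases hm0 : m = 0
    · subst hm0
      have hne : ξ' ≠ ξ := fun h => ((hξ ξ' (h ▸ hξo) 0 hm).1.1 (dvd_zero p)) h
      exact ⟨iff_of_true (dvd_zero p) hne, fun h => absurd h hne⟩
    · have hχθ' := hbelow χ ξ' θ' (by rw [hm]; exact_mod_cast hm0) hθ'n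
      obtain ⟨g, hg⟩ := Clifford.constituent_conj χ.2 θ'.2 θ.2 hχθ' hθn
      obtain ⟨c, hc, hce⟩ := exists_conj_fixed hS φ Q hQinv hidx (isClassFunction (isCharacter_of_irr θ'.2))
        hθ' hθ hg
      refine hξ ξ' ?_ m hm
      have hcC : c ∈ C := (hC c).2 hc
      have hF : Clifford.conjFun c (fun q : Q => (ξ' : C → ℂ) ⟨(q : K), hQC q.2⟩) =
          fun q : Q => (ξ' : C → ℂ) ⟨(q : K), hQC q.2⟩ := funext fun q =>
        isClassFunction (isCharacter_of_irr ξ'.2) ⟨(q : K), hQC q.2⟩ ⟨c, hcC⟩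
      rw [hce, ← hF, Clifford.classInner_conjFun]
      exact hθ'n
  · intro ξ hξ
    obtain ⟨θ, hθ, hθn⟩ := hconstC ξ hξ
    obtain ⟨χ, hχi, hnd, huniq⟩ := (key θ hθ).2 ξ hθn
    refine ⟨χ, ⟨hχi, hnd⟩, fun χ' h' => ?_⟩
    obtain ⟨m, hm⟩ := classInner_characters_nat
      (CharBasics.isCharacter_restrict (isCharacter_of_irr χ'.2) C) (isCharacter_of_irr ξ.2)
    refine huniq χ' h'.1 (hbelow χ' ξ θ ?_ hθn) m hm (h'.2 m hm)
    rw [hm, Nat.cast_ne_zero]
    rintro rfl
    exact h'.2 0 hm (dvd_zero p)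

end Main

end CfsgLib.NormalSylowCorr
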