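import Cfsg.Agent.Clifford.Ito
import Cfsg.Agent.Clifford.ExtCriteria
import Cfsg.Agent.Clifford.GlaubermanNormalSylow
import Cfsg.Agent.CoprimeAction.Basic
import Cfsg.Agent.S4445

/-!
# Characters of degree prime to a solvable complement

If `G = K H` with `K` normal, `(|K|,|H|) = 1` and `H` solvable, the irreducible characters of degree prime to
`|H|` are counted by the classes of `C_K(H)` times the linear characters of `H`.
-/

set_option linter.unusedSectionVars false
set_option linter.style.haveILetI false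

namespace CfsgLib.CoprimeDegree

open Cfsg CfsgLib.CharBasics CfsgLib.Clifford

universe u

/-- A group acting on itself by conjugation. -/
def ConjPt (G : Type u) : Type u := G

/-- The underlying element. -/
def ConjPt.val {G : Type u} (x : ConjPt G) : G := x

/-- An element as a point. -/
def ConjPt.mk {G : Type u} (x : G) : ConjPt G := x

instance {G : Type u} [Group G] : MulAction G (ConjPt G) where
  smul g x := ConjPt.mk (g * x.val * g⁻¹)
  one_smul x := by
    show (1 : G) * x.val * (1 : G)⁻¹ = x.val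
    group
  mul_smul a b x := by
    show a * b * x.val * (a * b)⁻¹ = a * (b * x.val * b⁻¹) * a⁻¹
    group

theorem ConjPt.smul_def {G : Type u} [Group G] (g : G) (x : ConjPt G) : g • x = (g * x.val * g⁻¹ : G) := rfl

variable {G : Type u} [Group G] [Fintype G] {K H : Subgroup G} [hKn : K.Normal]

/-- A member of degree prime to the index restricts irreducibly to an invariant character. -/
theorem restrict_of_coprime [Fintype K] {χ : IrrCharacter G}
    (hd : (charDegree (χ : G → ℂ)).Coprime K.index) {θ : IrrCharacter K}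
    (hne : classInner (fun n : K => (χ : G → ℂ) n) (θ : K → ℂ) ≠ 0) :
    (∀ g : G, conjFun g (θ : K → ℂ) = (θ : K → ℂ)) ∧ ∀ n : K, (χ : G → ℂ) n = (θ : K → ℂ) n := by
  classical
  obtain ⟨e, he⟩ := classInner_characters_nat
    (CharBasics.isCharacter_restrict (isCharacter_of_irr χ.2) K) (isCharacter_of_irr θ.2)
  change classInner (fun n : K => (χ : G → ℂ) n) (θ : K → ℂ) = (e : ℂ) at he
  have hAT : K ≤ inertia (G := G) (θ : K → ℂ) := le_inertia (isClassFunction (isCharacter_of_irr θ.2))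
  set T := inertia (G := G) (θ : K → ℂ) with hT
  have := Fintype.ofFinite T
  obtain ⟨ψ, hψ, -, -, hψN⟩ := exists_inertia_correspondent χ.2 θ.2 hne T rfl hAT
  let E : K.subgroupOf T ≃* K := Subgroup.subgroupOfEquivOfLe hAT
  have hφ' : IsIrrCharacter (K.subgroupOf T) (fun m => (θ : K → ℂ) (E m)) :=
    CfsgLib.Clifford.isIrrCharacter_comp θ.2 E.toMonoidHom E.surjective
  have hdvd : e ∣ (K.subgroupOf T).index := by
    refine charMult_dvd_index hψ hφ' (fun t => funext fun m => congrFun (mem_inertia.mp t.2) (E m)) e fun m => ?_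
    have := congrFun hψN (E m)
    rw [he] at this
    exact this
  have h1 := restrict_one_eq χ.2 θ.2 hne
  rw [he, apply_one (isCharacter_of_irr χ.2), apply_one (isCharacter_of_irr θ.2), ← hT] at h1
  have h1' : charDegree (χ : G → ℂ) = e * T.index * charDegree (θ : K → ℂ) := by exact_mod_cast h1
  have hdK : e * T.index ∣ K.index := by
    rw [← Subgroup.relIndex_mul_index hAT]
    exact Nat.mul_dvd_mul_right hdvd T.index
  have heT : e * T.index = 1 := Nat.eq_one_of_dvd_coprimes hd ⟨_, h1'⟩ hdK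
  have hTtop : T = ⊤ := Subgroup.index_eq_one.1 (Nat.eq_one_of_mul_eq_one_left heT)
  have hinv : ∀ g : G, conjFun g (θ : K → ℂ) = (θ : K → ℂ) := fun g =>
    mem_inertia.1 (show g ∈ T from hTtop ▸ Subgroup.mem_top g)
  refine ⟨hinv, fun n => ?_⟩
  rw [congrFun (restrict_eq_smul_of_invariant χ.2 θ.2 hinv hne) n, Pi.smul_apply, he,
    Nat.eq_one_of_mul_eq_one_right heT, Nat.cast_one, one_smul]

/-- Invariant characters extend, the index being prime to the order. -/
theorem exists_extension [Fintype K] (hcop : K.index.Coprime (Nat.card K)) (θ : IrrCharacter K)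
    (hinv : ∀ g : G, conjFun g (θ : K → ℂ) = (θ : K → ℂ)) :
    ∃ η : IrrCharacter G, ∀ n : K, (η : G → ℂ) n = (θ : K → ℂ) n := by
  classical
  obtain ⟨lam, hlam⟩ := exists_detHom θ.2
  have hlinv : ∀ (g : G) (n : K), lam ⟨g * n * g⁻¹, hKn.conj_mem (n : G) n.2 g⟩ = lam n := by
    intro g n
    have h := NormalSylowCorr.detChar_comp θ.2 (MulAut.conjNormal g : MulAut K)
    rw [show (fun a : K => (θ : K → ℂ) ((MulAut.conjNormal g : MulAut K) a)) = (θ : K → ℂ) by
      rw [← conjFun_eq_comp]; exact hinv g, hlam] at h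
    have h2 := congrFun h n
    refine Eq.trans (congrArg lam (Subtype.ext ?_)) h2.symm
    rw [MulAut.conjNormal_apply]
  obtain ⟨μ, hμ, -⟩ := exists_coprime_linearExtension lam hlinv (o := Nat.card K)
    (fun n => by rw [← map_pow, pow_card_eq_one', map_one]) hcop
  obtain ⟨η, hη, hres⟩ := exists_charExtension_of_det θ.2 (fun g n => congrFun (hinv g) n)
    (d := charDegree (θ : K → ℂ)) (apply_one (isCharacter_of_irr θ.2))
    (hcop.coprime_dvd_right (degree_dvd θ)) μ (fun n => by rw [hμ, hlam])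
  exact ⟨⟨η, hη⟩, hres⟩

/-- The count, through restriction. -/
theorem card_coprime_degree [Fintype K] (hcop : K.index.Coprime (Nat.card K)) :
    Nat.card {χ : IrrCharacter G // (charDegree (χ : G → ℂ)).Coprime K.index} =
      Nat.card {θ : IrrCharacter K // ∀ g : G, conjFun g (θ : K → ℂ) = (θ : K → ℂ)} *
        Nat.card {f : G →* ℂ // ∀ n ∈ K, f n = 1} := by
  classical
  choose η hη using fun θ : {θ : IrrCharacter K // ∀ g : G, conjFun g (θ : K → ℂ) = (θ : K → ℂ)} =>
    exists_extension hcop θ.1 θ.2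
  rw [← Nat.card_prod]
  symm
  refine Nat.card_eq_of_bijective (fun x => ⟨⟨fun g => x.2.1 g * (η x.1 : G → ℂ) g,
    isIrrCharacter_linear_mul (η x.1).2 x.2.1⟩, ?_⟩) ⟨?_, ?_⟩
  · have h : charDegree (fun g => x.2.1 g * (η x.1 : G → ℂ) g) = charDegree (x.1.1 : K → ℂ) := by
      simp only [charDegree, map_one, one_mul]
      rw [← hη x.1 1, Subgroup.coe_one]
    show (charDegree _).Coprime _
    rw [h]
    exact (hcop.coprime_dvd_right (degree_dvd x.1.1)).symm
  · rintro ⟨θ, f⟩ ⟨θ', f'⟩ he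
    have he' : (fun g => f.1 g * (η θ : G → ℂ) g) = fun g => f'.1 g * (η θ' : G → ℂ) g :=
      congrArg Subtype.val (congrArg Subtype.val he)
    have hθ : θ = θ' := by
      refine Subtype.ext (Subtype.ext (funext fun n => ?_))
      have := congrFun he' n
      rwa [f.2 n n.2, f'.2 n n.2, one_mul, one_mul, hη θ, hη θ'] at this
    subst hθ
    refine Prod.ext rfl (Subtype.ext ?_)
    have h1θ : ((fun _ => 1) * (θ.1 : K → ℂ) : K → ℂ) = (θ.1 : K → ℂ) := funext fun n => one_mul _
    have hgal := gallagher_bijOn (G := G) (φ := fun _ : K => (1 : ℂ)) CfsgLib.CharBasics.isIrrCharacter_one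
      (fun g => rfl) (h1θ.symm ▸ θ.1.2) (isCharacter_of_irr (η θ).2) (hη θ)
    have hmem : ∀ f : {f : G →* ℂ // ∀ n ∈ K, f n = 1}, IsIrrCharacter G (fun g => f.1 g) ∧
        classInner (indFun K fun _ => 1) (fun g => f.1 g) ≠ 0 := fun f =>
      ⟨isIrrCharacter_of_hom f.1, (mem_over_one_iff (isIrrCharacter_of_hom f.1)).2 fun n hn => by
        rw [f.2 n hn, map_one]⟩
    exact DFunLike.coe_injective (hgal.injOn (hmem f) (hmem f') he')
  · rintro ⟨χ, hχ⟩
    obtain ⟨θ₀, h0⟩ := exists_restrict_constituent K χ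
    have hne : classInner (fun n : K => (χ : G → ℂ) n) (θ₀ : K → ℂ) ≠ 0 := by
      rw [classInner_comm, Ne, map_eq_zero]; exact h0
    obtain ⟨hinv, hres⟩ := restrict_of_coprime hχ hne
    obtain ⟨f, hf, he⟩ := extension_eq_linear_mul θ₀.2 (η ⟨θ₀, hinv⟩).2 (hη _) χ.2 hres
    exact ⟨(⟨θ₀, hinv⟩, ⟨f, fun n hn => hf ⟨n, hn⟩⟩), Subtype.ext (Subtype.ext he.symm)⟩

/-- Linear characters trivial on `K` are those of a complement. -/
theorem card_hom_trivial (hKH : K ⊔ H = ⊤) (hcop : (Nat.card K).Coprime (Nat.card H)) :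
    Nat.card {f : G →* ℂ // ∀ n ∈ K, f n = 1} = Nat.card (H →* ℂ) := by
  classical
  let r : H →* G ⧸ K := (QuotientGroup.mk' K).comp H.subtype
  have hbot : H ⊓ K = ⊥ := Subgroup.inf_eq_bot_of_coprime hcop.symm
  have hr : Function.Bijective r := by
    refine ⟨(injective_iff_map_eq_one r).2 fun h hh => ?_, fun q => ?_⟩
    · have : (h : G) ∈ H ⊓ K := ⟨h.2, (QuotientGroup.eq_one_iff _).1 hh⟩
      rw [hbot, Subgroup.mem_bot] at this
      exact Subtype.ext this
    · obtain ⟨g, rfl⟩ := QuotientGroup.mk'_surjective K q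
      have hg : g ∈ (↑(K ⊔ H) : Set G) := by rw [hKH]; trivial
      rw [Subgroup.normal_mul] at hg
      obtain ⟨a, ha, c, hc, rfl⟩ := hg
      refine ⟨⟨c, hc⟩, ?_⟩
      show QuotientGroup.mk' K c = QuotientGroup.mk' K (a * c)
      rw [map_mul, show QuotientGroup.mk' K a = 1 from (QuotientGroup.eq_one_iff a).2 ha, one_mul]
  let e := MulEquiv.ofBijective r hr
  refine Nat.card_congr
    { toFun := fun f => f.1.comp H.subtype
      invFun := fun g => ⟨g.comp (e.symm.toMonoidHom.comp (QuotientGroup.mk' K)), fun n hn => by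
        show g (e.symm (QuotientGroup.mk' K n)) = 1
        rw [show QuotientGroup.mk' K n = 1 from (QuotientGroup.eq_one_iff n).2 hn, map_one, map_one]⟩
      left_inv := fun f => Subtype.ext (MonoidHom.ext fun x => ?_)
      right_inv := fun g => MonoidHom.ext fun h => ?_ }
  · show f.1 ((e.symm (QuotientGroup.mk' K x) : H) : G) = f.1 x
    have h1 : QuotientGroup.mk' K ((e.symm (QuotientGroup.mk' K x) : H) : G) = QuotientGroup.mk' K x :=
      e.apply_symm_apply _
    obtain ⟨n, hn, hnx⟩ : ∃ n ∈ K, ((e.symm (QuotientGroup.mk' K x) : H) : G) * n = x :=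
      ⟨_, QuotientGroup.eq.1 h1, mul_inv_cancel_left _ _⟩
    conv_rhs => rw [← hnx, map_mul, f.2 n hn, mul_one]
  · show g (e.symm (e h)) = g h
    rw [e.symm_apply_apply]

/-- The invariant characters are as many as the classes of the fixed points. -/
theorem card_invariant [Fintype K] (hKH : K ⊔ H = ⊤) (hcop : (Nat.card K).Coprime (Nat.card H))
    (hsolv : Group.IsSolvable H) :
    Nat.card {θ : IrrCharacter K // ∀ g : G, conjFun g (θ : K → ℂ) = (θ : K → ℂ)} =
      Nat.card (ConjClasses (K ⊓ Subgroup.centralizer (H : Set G) : Subgroup G)) := by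
  classical
  let φ : H →* MulAut K := MulAut.conjNormal.comp H.subtype
  have hφ : ∀ (h : H) (k : K), ((φ h k : K) : G) = h * k * (h : G)⁻¹ := fun h k => MulAut.conjNormal_apply _ _
  have h1 : ∀ θ : IrrCharacter K,
      (∀ g : G, conjFun g (θ : K → ℂ) = (θ : K → ℂ)) ↔ CfsgLib.Blocks.IsInvariant φ (θ : K → ℂ) := by
    intro θ
    have he : ∀ (h : H) (k : K), (θ : K → ℂ) (φ h k) = conjFun (h : G) (θ : K → ℂ) k := fun h k => by
      rw [conjFun_eq_comp]; rfl
    refine ⟨fun hh h k => by rw [he, hh], fun hh g => mem_inertia.1 ?_⟩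
    have hle : K ⊔ H ≤ inertia (G := G) (θ : K → ℂ) :=
      sup_le (le_inertia (isClassFunction (isCharacter_of_irr θ.2))) fun h hH =>
        mem_inertia.2 (funext fun k => by rw [← he ⟨h, hH⟩ k]; exact hh _ _)
    exact hle (hKH ▸ Subgroup.mem_top g)
  rw [Nat.card_congr (Equiv.subtypeEquivRight h1),
    Cfsg.Agent.S4445.count (Nat.card H) K H φ rfl hcop hsolv]
  -- classes
  set C : Subgroup G := K ⊓ Subgroup.centralizer (H : Set G) with hC
  let ι : C →* K := Subgroup.inclusion inf_le_left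
  have hfix : ∀ (h : H) (c : C), φ h (ι c) = ι c := fun h c => Subtype.ext (by
    rw [hφ]
    show (h : G) * (c : G) * (h : G)⁻¹ = (c : G)
    rw [Subgroup.mem_centralizer_iff.1 c.2.2 h h.2, mul_inv_cancel_right])
  have hHK : ∀ L : Subgroup G, (∀ h ∈ H, ∀ x ∈ L, h * x * h⁻¹ ∈ L) → H ≤ Subgroup.normalizer (L : Set G) :=
    fun L hL => Subgroup.le_normalizer_iff.2 hL
  symm
  refine Nat.card_eq_of_bijective (fun X => ⟨ConjClasses.map ι X, ?_⟩) ⟨?_, ?_⟩
  · obtain ⟨c, rfl⟩ := ConjClasses.exists_rep X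
    intro h k hk
    refine ConjClasses.mk_eq_mk_iff_isConj.2 ?_
    have h2 := MonoidHom.map_isConj (φ h).toMonoidHom (ConjClasses.mk_eq_mk_iff_isConj.1 hk)
    simp only [MulEquiv.coe_toMonoidHom, hfix] at h2
    exact h2
  · intro X Y he
    obtain ⟨c, rfl⟩ := ConjClasses.exists_rep X
    obtain ⟨d, rfl⟩ := ConjClasses.exists_rep Y
    obtain ⟨x, hx⟩ := isConj_iff.1 (ConjClasses.mk_eq_mk_iff_isConj.1 (congrArg Subtype.val he))
    have hxG : (x : G) * (c : G) * (x : G)⁻¹ = (d : G) := congrArg Subtype.val hx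
    set N : Subgroup G := K ⊓ Subgroup.centralizer ({(d : G)} : Set G) with hN
    have hd : ∀ h ∈ H, h * (d : G) = (d : G) * h := fun h hh => Subgroup.mem_centralizer_iff.1 d.2.2 h hh
    have hc : ∀ h ∈ H, h * (c : G) = (c : G) * h := fun h hh => Subgroup.mem_centralizer_iff.1 c.2.2 h hh
    have hmemN : ∀ {y : G}, y ∈ K → y * (d : G) * y⁻¹ = (d : G) → y ∈ N := fun {y} hy h =>
      ⟨hy, Subgroup.mem_centralizer_singleton_iff.2 (mul_inv_eq_iff_eq_mul.1 h)⟩
    obtain ⟨n, hn, hnx⟩ := CfsgLib.CoprimeAction.exists_mem_centralizer (A := H) (N := N) (k := (x : G))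
      (hHK N fun h hh y hy => hmemN (hKn.conj_mem y hy.1 h) (by
        have hy' : y * (d : G) * y⁻¹ = (d : G) :=
          mul_inv_eq_iff_eq_mul.2 (Subgroup.mem_centralizer_singleton_iff.1 hy.2)
        have hd' : h⁻¹ * (d : G) * h = (d : G) := by rw [mul_assoc, ← hd h hh]; group
        calc h * y * h⁻¹ * (d : G) * (h * y * h⁻¹)⁻¹ = h * (y * (h⁻¹ * (d : G) * h) * y⁻¹) * h⁻¹ := by group
          _ = (d : G) := by rw [hd', hy', hd h hh, mul_inv_cancel_right]))
      (Nat.Coprime.coprime_dvd_right (Subgroup.card_dvd_of_le inf_le_left) hcop.symm) (Or.inl hsolv)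
      (fun h hh => by
        refine hmemN ?_ ?_
        · exact K.mul_mem (hKn.conj_mem _ x.2 h) (K.inv_mem x.2)
        · have hd' : h⁻¹ * (d : G) * h = (d : G) := by rw [mul_assoc, ← hd h hh]; group
          have hcx : (x : G)⁻¹ * (d : G) * (x : G) = (c : G) := by rw [← hxG]; group
          calc h * (x : G) * h⁻¹ * (x : G)⁻¹ * (d : G) * (h * (x : G) * h⁻¹ * (x : G)⁻¹)⁻¹
              = h * ((x : G) * (h⁻¹ * ((x : G)⁻¹ * (d : G) * (x : G)) * h) * (x : G)⁻¹) * h⁻¹ := by group
            _ = (d : G) := by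
              rw [hcx, show h⁻¹ * (c : G) * h = (c : G) by rw [mul_assoc, ← hc h hh]; group, hxG, hd h hh,
                mul_inv_cancel_right])
    refine ConjClasses.mk_eq_mk_iff_isConj.2 (isConj_iff.2 ⟨⟨n * x, K.mul_mem hn.1 x.2, hnx⟩, Subtype.ext ?_⟩)
    show n * (x : G) * (c : G) * (n * (x : G))⁻¹ = (d : G)
    calc n * (x : G) * (c : G) * (n * (x : G))⁻¹ = n * ((x : G) * (c : G) * (x : G)⁻¹) * n⁻¹ := by group
      _ = (d : G) := by rw [hxG, Subgroup.mem_centralizer_singleton_iff.1 hn.2, mul_inv_cancel_right]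
  · rintro ⟨X, hX⟩
    obtain ⟨g₀, rfl⟩ := ConjClasses.exists_rep X
    let S : Set (ConjPt G) := {y | ∃ k : K, ConjPt.mk ((k * g₀ * k⁻¹ : K) : G) = y}
    obtain ⟨y, ⟨k, hk⟩, hy⟩ := CfsgLib.CoprimeAction.exists_fixed (A := H) (K := K) (α := ConjPt G)
      (hHK K fun h _ x hx => hKn.conj_mem x hx h) hcop.symm (Or.inl hsolv) S ⟨_, 1, rfl⟩
      (by
        rintro a ha _ ⟨k, rfl⟩
        refine ⟨⟨a, ha⟩ * k, ?_⟩
        show _ = a * (((k * g₀ * k⁻¹ : K) : G)) * a⁻¹
        simp [mul_assoc]; rfl)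
      (by
        rintro h hh _ ⟨k, rfl⟩
        obtain ⟨x, hx⟩ := isConj_iff.1 (ConjClasses.mk_eq_mk_iff_isConj.1
          (hX ⟨h, hh⟩ (k * g₀ * k⁻¹) (ConjClasses.mk_eq_mk_iff_isConj.2 (isConj_iff.2 ⟨k, rfl⟩).symm)).symm)
        refine ⟨x, ?_⟩
        show _ = h * (((k * g₀ * k⁻¹ : K) : G)) * h⁻¹
        rw [hx, hφ]; rfl)
      (by
        rintro _ ⟨k, rfl⟩ _ ⟨l, rfl⟩
        refine ⟨(l : G) * (k : G)⁻¹, K.mul_mem l.2 (K.inv_mem k.2), ?_⟩
        show (l : G) * (k : G)⁻¹ * (((k * g₀ * k⁻¹ : K) : G)) * ((l : G) * (k : G)⁻¹)⁻¹ = _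
        simp [mul_assoc]; rfl)
    subst hk
    let c : C := ⟨((k * g₀ * k⁻¹ : K) : G), (k * g₀ * k⁻¹ : K).2, Subgroup.mem_centralizer_iff.2 fun h hh =>
      mul_inv_eq_iff_eq_mul.1 (hy h hh)⟩
    refine ⟨ConjClasses.mk c, Subtype.ext ?_⟩
    exact ConjClasses.mk_eq_mk_iff_isConj.2 (isConj_iff.2 ⟨k, rfl⟩).symm

/-- The count by classes and linear characters. -/
theorem card_eq_classes_mul (hKH : K ⊔ H = ⊤) (hcop : (Nat.card K).Coprime (Nat.card H))
    (hsolv : Group.IsSolvable H) :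
    Nat.card {χ : IrrCharacter G // (charDegree (χ : G → ℂ)).Coprime (Nat.card H)} =
      Nat.card (ConjClasses (K ⊓ Subgroup.centralizer (H : Set G) : Subgroup G)) * Nat.card (H →* ℂ) := by
  classical
  haveI : Fintype K := Fintype.ofFinite _
  have hHK : Subgroup.IsComplement' K H := Subgroup.isComplement'_of_disjoint_and_mul_eq_univ
    (disjoint_iff.2 (Subgroup.inf_eq_bot_of_coprime hcop)) (by rw [← Subgroup.normal_mul, hKH]; rfl)
  have hidx : K.index = Nat.card H := hHK.symm.index_eq_card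
  rw [← hidx, card_coprime_degree (hidx ▸ hcop.symm), card_invariant hKH hcop hsolv, card_hom_trivial hKH hcop]

end CfsgLib.CoprimeDegree
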