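import Mathlib
import Cfsg.Agent.Clifford.Gallagher
import Cfsg.Agent.Clifford.ScalarIndex

/-!
Averages of characters over cosets of a normal subgroup, and the norm of a restriction.
-/

set_option autoImplicit false

namespace CfsgLib.Clifford

open scoped ComplexConjugate
open CfsgLib.CharBasics

universe u

variable {G : Type u} [Group G] {N : Subgroup G} [hN : N.Normal]

/-- An irreducible character without `N` in its kernel sums to zero on every coset of `N`. -/
theorem coset_sum_eq_zero [Fintype G] [Fintype N] {β : G → ℂ} (hβ : Cfsg.IsIrrCharacter G β)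
    (h : ¬ ∀ n ∈ N, β n = β 1) (g : G) : ∑ n : N, β ((n : G) * g) = 0 := by
  classical
  have h0 : ∑ n : N, β n = 0 := by
    have h1 : Cfsg.classInner (fun n : N => β n) (fun _ => 1) = 0 := by
      by_contra hne
      refine h ((mem_over_one_iff hβ).mp ?_)
      rw [classInner_indFun N _ (isClassFunction (isCharacter_of_irr hβ)), classInner_comm, Ne, map_eq_zero]
      exact hne
    rw [classInner_one] at h1
    rcases mul_eq_zero.mp h1 with h2 | h2
    · exact absurd (inv_eq_zero.mp h2) (Nat.cast_ne_zero.mpr Nat.card_pos.ne')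
    · exact h2
  obtain ⟨m, ρ, hρ, rfl⟩ := hβ
  obtain ⟨c, hc⟩ := schur_scalar hρ (∑ n : N, ρ (n : G)) fun x => by
    rw [Finset.sum_mul, Finset.mul_sum]
    refine Fintype.sum_equiv (MulAut.conjNormal x⁻¹).toEquiv _ _ fun n => ?_
    rw [← map_mul, ← map_mul]
    congr 1
    simp [mul_assoc]
  have hdim : (m : ℂ) ≠ 0 := by
    have := finrank_pos_of_irreducible hρ
    rw [Module.finrank_fin_fun] at this
    exact_mod_cast this.ne'
  have hc0 : c = 0 := by
    have h1 := congrArg (LinearMap.trace ℂ (Fin m → ℂ)) hc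
    rw [map_sum, map_smul, LinearMap.trace_one, Module.finrank_fin_fun, smul_eq_mul] at h1
    have h2 : ∑ n : N, LinearMap.trace ℂ (Fin m → ℂ) (ρ n) = 0 := h0
    rw [h2] at h1
    exact (mul_eq_zero.mp h1.symm).resolve_right hdim
  simp only [Representation.character, map_mul]
  rw [← map_sum, ← Finset.sum_mul, hc, hc0, zero_smul, zero_mul, map_zero]

/-- The norm of the restriction is at most the index, with equality exactly for characters vanishing off `N`. -/
theorem restrict_norm_eq_index_iff [Fintype G] [Fintype N] {χ : G → ℂ} (hχ : Cfsg.IsIrrCharacter G χ) :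
    Cfsg.classInner (fun n : N => χ n) (fun n : N => χ n) = (N.index : ℂ) ↔ ∀ g : G, g ∉ N → χ g = 0 := by
  classical
  have hG := classInner_self hχ
  rw [classInner_eq, ← Finset.sum_filter_add_sum_filter_not Finset.univ (fun g : G => g ∈ N)] at hG
  have hsub : ∑ g ∈ Finset.univ.filter (fun g : G => g ∈ N), χ g * conj (χ g) = ∑ n : N, χ n * conj (χ n) :=
    Finset.sum_subtype _ (by simp) (fun g => χ g * conj (χ g))
  rw [hsub] at hG
  have hN0 : (Nat.card N : ℂ) ≠ 0 := Nat.cast_ne_zero.mpr Nat.card_pos.ne'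
  have hi0 : (N.index : ℂ) ≠ 0 := Nat.cast_ne_zero.mpr Subgroup.index_ne_zero_of_finite
  have hcard : (Nat.card G : ℂ) = (N.index : ℂ) * (Nat.card N : ℂ) := by
    rw [← Nat.cast_mul, Subgroup.index_mul_card]
  rw [classInner_eq, inv_mul_eq_iff_eq_mul₀ hN0]
  rw [inv_mul_eq_iff_eq_mul₀ (Nat.cast_ne_zero.mpr Nat.card_pos.ne'), mul_one, hcard] at hG
  constructor
  · intro h g hg
    rw [h, mul_comm, add_eq_left] at hG
    simp only [Complex.mul_conj, ← Complex.ofReal_sum] at hG
    have h1 := (Finset.sum_eq_zero_iff_of_nonneg (fun g _ => Complex.normSq_nonneg (χ g))).mp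
      (Complex.ofReal_eq_zero.mp hG) g (Finset.mem_filter.mpr ⟨Finset.mem_univ _, hg⟩)
    exact Complex.normSq_eq_zero.mp h1
  · intro h
    have hz : ∑ g ∈ Finset.univ.filter (fun g : G => g ∉ N), χ g * conj (χ g) = 0 :=
      Finset.sum_eq_zero fun g hg => by rw [h g (Finset.mem_filter.mp hg).2, zero_mul]
    rw [hz, add_zero] at hG
    rw [hG, mul_comm]

end CfsgLib.Clifford
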