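import Mathlib
import Cfsg.Agent.Clifford.Gallagher
import Cfsg.Agent.Clifford.InertiaAbelian
import Cfsg.Agent.CoprimeAction.Basic

/-!
An invariant character above an invariant character, for coprime action and solvable quotient.
-/

set_option autoImplicit false

namespace CfsgLib.Clifford

open CfsgLib.CharBasics

universe u

variable {G : Type u} [Group G] {M : Subgroup G} [hM : M.Normal]

/-- Constituents over the same character differ by linear characters of an abelian quotient. -/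
theorem exists_twist_of_abelian [Fintype G] [Fintype M] (hab : ∀ x y : G, x * y * x⁻¹ * y⁻¹ ∈ M) {ψ : M → ℂ}
    (hψ : Cfsg.IsIrrCharacter M ψ) {χ χ' : G → ℂ} (hχ : Cfsg.IsIrrCharacter G χ) (hχ' : Cfsg.IsIrrCharacter G χ')
    (h : Cfsg.classInner (fun n : M => χ n) ψ ≠ 0) (h' : Cfsg.classInner (fun n : M => χ' n) ψ ≠ 0) :
    ∃ l : (G ⧸ M) →* ℂˣ, χ' = fun g : G => ((l (g : G ⧸ M) : ℂˣ) : ℂ) * χ g := by
  classical
  have hχc := isCharacter_of_irr hχ
  have hχ'c := isCharacter_of_irr hχ'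
  obtain ⟨R, hR, hsum⟩ := exists_eq_add_of_constituent (CfsgLib.CharBasics.isCharacter_restrict hχc M) hψ h
  have hMM : Cfsg.classInner (fun n : M => χ n) (fun n : M => χ' n) ≠ 0 := by
    rw [hsum]
    refine classInner_add_ne_zero_left (isCharacter_of_irr hψ) hR
      (CfsgLib.CharBasics.isCharacter_restrict hχ'c M) ?_
    rw [classInner_comm, Ne, map_eq_zero]
    exact h'
  obtain ⟨r, f, hf, hdec⟩ := exists_decomp (isCharacter_indFun M (θ := fun _ : M => (1 : ℂ))
    (isCharacter_of_irr isIrrCharacter_one))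
  have h1 : (fun n : M => (1 : ℂ) * χ n) = fun n : M => χ n := funext fun n => one_mul _
  have h3 : Cfsg.classInner (Cfsg.indFun M (fun _ => 1) * χ) χ' ≠ 0 := by
    rw [← indFun_mul_restrict M (fun _ => 1) (CfsgLib.CharBasics.isClassFunction hχc), h1,
      classInner_indFun M _ (CfsgLib.CharBasics.isClassFunction hχ'c)]
    exact hMM
  rw [hdec, Finset.sum_mul, classInner_sum_left] at h3
  obtain ⟨i, -, hi⟩ := Finset.exists_ne_zero_of_sum_ne_zero h3
  have hiM : ∀ n ∈ M, f i n = f i 1 := by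
    refine (mem_over_one_iff (hf i)).mp ?_
    rw [hdec, classInner_sum_left, ← Finset.add_sum_erase _ _ (Finset.mem_univ i), classInner_self (hf i)]
    obtain ⟨j, hj⟩ := classInner_characters_nat
      (CfsgLib.CharBasics.isCharacter_sum (Finset.univ.erase i) f fun j _ => isCharacter_of_irr (hf j))
      (isCharacter_of_irr (hf i))
    rw [← classInner_sum_left, hj]
    exact_mod_cast (by omega : 1 + j ≠ 0)
  have hi1 := apply_one_eq_one_of_commutators (hf i) fun x y => hiM _ (hab x y)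
  obtain ⟨μ, hμ⟩ := exists_hom_of_linear (isCharacter_of_irr (hf i)) hi1
  have hprod : Cfsg.IsIrrCharacter G (f i * χ) := by
    rw [hμ]
    exact isIrrCharacter_linear_mul hχ μ
  have heq : f i * χ = χ' := by
    by_contra hh
    exact hi (classInner_ne hprod hχ' hh)
  have hμM : M ≤ μ.toHomUnits.ker := fun n hn => Units.ext ((congrFun hμ n).symm.trans ((hiM n hn).trans hi1))
  refine ⟨QuotientGroup.lift M μ.toHomUnits hμM, ?_⟩
  rw [← heq]
  funext g
  rw [Pi.mul_apply, hμ]
  rfl

/-- Abelian quotient: an invariant constituent above exists. -/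
theorem exists_invariant_over_abelian [Fintype G] [Fintype M] (hab : ∀ x y : G, x * y * x⁻¹ * y⁻¹ ∈ M)
    {A : Type u} [Group A] [Finite A] (act : A →* MulAut G) (hcop : M.index.Coprime (Nat.card A))
    (hAM : ∀ a, ∀ m ∈ M, act a m ∈ M) {ψ : M → ℂ} (hψ : Cfsg.IsIrrCharacter M ψ)
    (hinv : ∀ a, ∀ m : M, ψ ⟨act a m, hAM a m m.2⟩ = ψ m) :
    ∃ χ : G → ℂ, Cfsg.IsIrrCharacter G χ ∧ Cfsg.classInner (fun n : M => χ n) ψ ≠ 0 ∧
      ∀ a g, χ (act a g) = χ g := by
  classical
  letI : CommGroup (G ⧸ M) :=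
    { (inferInstance : Group (G ⧸ M)) with
      mul_comm := by
        intro a b
        obtain ⟨x, rfl⟩ := QuotientGroup.mk_surjective a
        obtain ⟨y, rfl⟩ := QuotientGroup.mk_surjective b
        rw [← QuotientGroup.mk_mul, ← QuotientGroup.mk_mul, QuotientGroup.eq]
        have := hab y⁻¹ x⁻¹
        simpa [mul_assoc] using this }
  have hcard : Nat.card ((G ⧸ M) →* ℂˣ) = M.index :=
    CommGroup.card_monoidHom_of_hasEnoughRootsOfUnity (G ⧸ M) ℂ
  haveI : Finite ((G ⧸ M) →* ℂˣ) :=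
    Nat.finite_of_card_ne_zero (hcard ▸ Subgroup.index_ne_zero_of_finite)
  let hom : ((G ⧸ M) →* ℂˣ) → G →* ℂ := fun l => (Units.coeHom ℂ).comp (l.comp (QuotientGroup.mk' M))
  let tw : ((G ⧸ M) →* ℂˣ) →* Equiv.Perm (Cfsg.IrrCharacter G) :=
    { toFun := fun l =>
        { toFun := fun χ => ⟨fun g => (l (g : G ⧸ M) : ℂ) * χ.1 g, isIrrCharacter_linear_mul χ.2 (hom l)⟩
          invFun := fun χ => ⟨fun g => ((l⁻¹) (g : G ⧸ M) : ℂ) * χ.1 g, isIrrCharacter_linear_mul χ.2 (hom l⁻¹)⟩
          left_inv := fun χ => Subtype.ext (funext fun g => by simp)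
          right_inv := fun χ => Subtype.ext (funext fun g => by simp) }
      map_one' := Equiv.ext fun χ => Subtype.ext (funext fun g => by simp)
      map_mul' := fun l l' => Equiv.ext fun χ => Subtype.ext (funext fun g => by simp [mul_assoc]) }
  let ac : A →* Equiv.Perm (Cfsg.IrrCharacter G) :=
    { toFun := fun a =>
        { toFun := fun χ => ⟨fun g => χ.1 (act a⁻¹ g),
            CfsgLib.Clifford.isIrrCharacter_comp χ.2 (act a⁻¹).toMonoidHom (act a⁻¹).surjective⟩
          invFun := fun χ => ⟨fun g => χ.1 (act a g),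
            CfsgLib.Clifford.isIrrCharacter_comp χ.2 (act a).toMonoidHom (act a).surjective⟩
          left_inv := fun χ => Subtype.ext (funext fun g => by simp [map_inv])
          right_inv := fun χ => Subtype.ext (funext fun g => by simp [map_inv]) }
      map_one' := Equiv.ext fun χ => Subtype.ext (funext fun g => by simp)
      map_mul' := fun a b => Equiv.ext fun χ => Subtype.ext (funext fun g => by simp [mul_inv_rev]) }
  set X : Set (Cfsg.IrrCharacter G) := {χ | Cfsg.classInner (fun n : M => χ.1 n) ψ ≠ 0} with hX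
  have hne : X.Nonempty := by
    have hI1 : Cfsg.indFun M ψ 1 ≠ 0 := by
      rw [indFun_apply_one]
      exact mul_ne_zero (Nat.cast_ne_zero.mpr Subgroup.index_ne_zero_of_finite) (apply_one_ne_zero hψ)
    obtain ⟨χ, m, hm, hme⟩ := exists_constituent (isCharacter_indFun M (isCharacter_of_irr hψ)) hI1
    refine ⟨χ, ?_⟩
    rw [classInner_indFun M ψ (CfsgLib.CharBasics.isClassFunction (isCharacter_of_irr χ.2)), classInner_comm] at hme
    intro h0
    rw [h0, map_zero] at hme
    exact hm.ne' (by exact_mod_cast hme.symm)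
  have hKX : ∀ k ∈ tw.range, ∀ χ ∈ X, k • χ ∈ X := by
    rintro _ ⟨l, rfl⟩ χ hχ
    change Cfsg.classInner (fun n : M => (l ((n : G) : G ⧸ M) : ℂ) * χ.1 n) ψ ≠ 0
    have h1 : (fun n : M => (l ((n : G) : G ⧸ M) : ℂ) * χ.1 n) = fun n : M => χ.1 n := funext fun n => by
      rw [(QuotientGroup.eq_one_iff (n : G)).mpr n.2, map_one, Units.val_one, one_mul]
    rw [h1]
    exact hχ
  have hAX : ∀ a ∈ ac.range, ∀ χ ∈ X, a • χ ∈ X := by
    rintro _ ⟨a, rfl⟩ χ hχ
    change Cfsg.classInner (fun n : M => χ.1 (act a⁻¹ n)) ψ ≠ 0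
    let f : M →* M := { toFun := fun m => ⟨act a⁻¹ m, hAM _ _ m.2⟩
                        map_one' := Subtype.ext (map_one _)
                        map_mul' := fun x y => Subtype.ext (map_mul _ _ _) }
    have hinjf : Function.Injective f := fun x y h =>
      Subtype.ext ((act a⁻¹).injective (congrArg Subtype.val h))
    let e : M ≃* M := MulEquiv.ofBijective f ⟨hinjf, Finite.injective_iff_surjective.mp hinjf⟩
    have h2 : ψ = fun m : M => ψ (e m) := funext fun m => (hinv a⁻¹ m).symm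
    rw [h2]
    show Cfsg.classInner (fun m : M => (fun n : M => χ.1 n) (e m)) (fun m : M => ψ (e m)) ≠ 0
    exact (classInner_comp_equiv e (fun n : M => χ.1 n) ψ).trans_ne hχ
  have htr : ∀ χ ∈ X, ∀ χ' ∈ X, ∃ k ∈ tw.range, k • χ = χ' := by
    intro χ hχ χ' hχ'
    obtain ⟨l, hl⟩ := exists_twist_of_abelian hab hψ χ.2 χ'.2 hχ hχ'
    exact ⟨tw l, ⟨l, rfl⟩, Subtype.ext hl.symm⟩
  have hnorm : ac.range ≤ Subgroup.normalizer (tw.range : Set (Equiv.Perm (Cfsg.IrrCharacter G))) := by
    suffices h : ∀ a ∈ ac.range, ∀ k ∈ tw.range, a * k * a⁻¹ ∈ tw.range by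
      intro a ha
      rw [Subgroup.mem_normalizer_iff]
      refine fun k => ⟨fun hk => h a ha k hk, fun hk => ?_⟩
      have := h a⁻¹ (inv_mem ha) _ hk
      simpa [mul_assoc] using this
    rintro _ ⟨a, rfl⟩ _ ⟨l, rfl⟩
    refine ⟨l.comp (QuotientGroup.map M M (act a⁻¹).toMonoidHom fun m hm => hAM _ m hm), ?_⟩
    rw [eq_mul_inv_iff_mul_eq]
    exact Equiv.ext fun χ => Subtype.ext (funext fun g => rfl)
  have hc : (Nat.card ac.range).Coprime (Nat.card tw.range) :=
    ((hcop.coprime_dvd_left (hcard ▸ Subgroup.card_range_dvd tw)).symm.coprime_dvd_left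
      (Subgroup.card_range_dvd ac))
  have hsolv : Group.IsSolvable ac.range ∨ Group.IsSolvable tw.range := by
    refine Or.inr (Group.isSolvable_of_surjective (f := tw.rangeRestrict) tw.rangeRestrict_surjective)
  obtain ⟨χ, hχX, hfix⟩ := CfsgLib.CoprimeAction.exists_fixed hnorm hc hsolv X hne hKX hAX htr
  refine ⟨χ.1, χ.2, hχX, fun a g => ?_⟩
  have h := congrArg (fun x : Cfsg.IrrCharacter G => x.1 (act a g)) (hfix (ac a) ⟨a, rfl⟩)
  change χ.1 (act a⁻¹ (act a g)) = _ at h
  rw [map_inv, MulAut.inv_apply_self] at h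
  exact h.symm

end CfsgLib.Clifford
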