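import Mathlib
import Cfsg.Agent.Clifford.ExtCriteria
import Cfsg.Agent.CharBasics.Extra
import Cfsg.Agent.BrauerInd.IndAlgebra

/-!
Nilpotent groups are monomial.
-/

set_option autoImplicit false

namespace CfsgLib.Clifford

open CfsgLib.CharBasics

universe u

variable {G : Type u} [Group G]

/-- The elements acting by scalars. -/
def scalarSubgroup {V : Type*} [AddCommGroup V] [Module ℂ V] (ρ : Representation ℂ G V) : Subgroup G where
  carrier := {g | ∀ x : G, ρ (g * x) = ρ (x * g)}
  mul_mem' {a b} ha hb := by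
    intro x
    rw [mul_assoc, map_mul, hb x, ← map_mul, ← mul_assoc, map_mul, ha x, ← map_mul, mul_assoc]
  one_mem' := by simp
  inv_mem' {a} ha := by
    intro x
    have h := ha (a⁻¹ * x * a⁻¹)
    rw [show a * (a⁻¹ * x * a⁻¹) = x * a⁻¹ by group, show a⁻¹ * x * a⁻¹ * a = a⁻¹ * x by group] at h
    exact h.symm

theorem scalarSubgroup_normal {V : Type*} [AddCommGroup V] [Module ℂ V] (ρ : Representation ℂ G V) :
    (scalarSubgroup ρ).Normal :=
  ⟨fun n hn g x => by
    have h := hn (g⁻¹ * x * g)
    rw [show g * n * g⁻¹ * x = g * (n * (g⁻¹ * x * g)) * g⁻¹ by group,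
      show x * (g * n * g⁻¹) = g * ((g⁻¹ * x * g) * n) * g⁻¹ by group, map_mul, map_mul ρ g, h,
      ← map_mul, ← map_mul]⟩

/-- A nilpotent group is monomial. -/
theorem monomial_of_isNilpotent (n : ℕ) : ∀ (G : Type u) [Group G] [Fintype G] [Group.IsNilpotent G],
    Nat.card G = n → ∀ χ : G → ℂ, Cfsg.IsIrrCharacter G χ →
      ∃ (H : Subgroup G) (lam : H →* ℂˣ), χ = Cfsg.indFun H (fun h => (lam h : ℂ)) := by
  induction n using Nat.strong_induction_on with
  | _ n ih =>
  intro G _ _ _ hn χ hχ
  classical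
  obtain ⟨d, ρ, hρ, hρχ⟩ := hχ
  have hχ : Cfsg.IsIrrCharacter G χ := ⟨d, ρ, hρ, hρχ⟩
  haveI := scalarSubgroup_normal ρ
  by_cases hZ : scalarSubgroup ρ = ⊤
  · -- a linear character
    have hd : χ 1 = 1 := by
      have hdvd := finrank_dvd_index_of_scalar hρ (⊤ : Subgroup G) fun z _ => schur_scalar hρ (ρ z) fun g => by
        rw [← map_mul, ← map_mul]
        exact (hZ ▸ Subgroup.mem_top z : z ∈ scalarSubgroup ρ) g
      rw [Subgroup.index_top, Nat.dvd_one] at hdvd
      rw [← hρχ, Representation.char_one, hdvd, Nat.cast_one]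
    obtain ⟨f, hf⟩ := exists_hom_of_linear (isCharacter_of_irr hχ) hd
    refine ⟨⊤, f.toHomUnits.comp (⊤ : Subgroup G).subtype, ?_⟩
    funext g
    have hcl := CfsgLib.CharBasics.isClassFunction (isCharacter_of_irr hχ)
    rw [Cfsg.indFun, Finset.sum_congr rfl (g := fun _ => χ g) fun x _ => ?_, Finset.sum_const, Finset.card_univ,
      nsmul_eq_mul, ← Nat.card_eq_fintype_card, Subgroup.card_top,
      inv_mul_cancel_left₀ (Nat.cast_ne_zero.mpr Nat.card_pos.ne')]
    rw [CfsgLib.IndFun.extendByZero_mem _ (Subgroup.mem_top _)]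
    change f (x⁻¹ * g * x) = χ g
    have h2 := hcl g x⁻¹
    rw [inv_inv, hf] at h2
    rw [hf]
    exact h2
  · obtain ⟨y, hy, hyZ⟩ : ∃ y : G, (∀ g : G, g * y * g⁻¹ * y⁻¹ ∈ scalarSubgroup ρ) ∧ y ∉ scalarSubgroup ρ := by
      have : Nontrivial (G ⧸ scalarSubgroup ρ) := by
        obtain ⟨g, -, hg⟩ := SetLike.exists_of_lt (lt_top_iff_ne_top.mpr hZ)
        exact nontrivial_of_ne (g : G ⧸ scalarSubgroup ρ) 1 fun h => hg ((QuotientGroup.eq_one_iff g).mp h)
      haveI : Group.IsNilpotent (G ⧸ scalarSubgroup ρ) := Group.nilpotent_quotient_of_nilpotent _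
      have hc : Nontrivial (Subgroup.center (G ⧸ scalarSubgroup ρ)) :=
        (Subgroup.nontrivial_iff_ne_bot _).mpr (Group.IsNilpotent.center_ne_bot _)
      obtain ⟨q, hq⟩ := exists_ne (1 : Subgroup.center (G ⧸ scalarSubgroup ρ))
      obtain ⟨y, hy⟩ := QuotientGroup.mk_surjective (q : G ⧸ scalarSubgroup ρ)
      refine ⟨y, fun g => ?_, fun h => hq (Subtype.ext (hy.symm.trans ((QuotientGroup.eq_one_iff y).mpr h)))⟩
      rw [← QuotientGroup.eq_one_iff, QuotientGroup.mk_mul, QuotientGroup.mk_mul, QuotientGroup.mk_mul,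
        QuotientGroup.mk_inv, QuotientGroup.mk_inv, hy, Subgroup.mem_center_iff.mp q.2, mul_inv_cancel_right,
        mul_inv_cancel]
    let A : Subgroup G := scalarSubgroup ρ ⊔ Subgroup.zpowers y
    have hZA : scalarSubgroup ρ ≤ A := le_sup_left
    have hyA : y ∈ A := le_sup_right (α := Subgroup G) (Subgroup.mem_zpowers y)
    haveI hAn : A.Normal := by
      refine ⟨fun a ha g => ?_⟩
      have hle : A ≤ A.comap (MulAut.conj g).toMonoidHom := by
        refine sup_le (fun z hz => hZA ((scalarSubgroup_normal ρ).conj_mem z hz g)) ?_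
        rw [Subgroup.zpowers_le]
        have := A.mul_mem (hZA (hy g)) hyA
        rw [inv_mul_cancel_right] at this
        exact this
      exact hle ha
    have hAc : ∀ a ∈ A, ∀ b ∈ A, ρ (a * b) = ρ (b * a) := by
      let C : Subgroup G :=
        { carrier := {a | ρ (a * y) = ρ (y * a)}
          mul_mem' := fun {a b} (ha : ρ (a * y) = ρ (y * a)) (hb : ρ (b * y) = ρ (y * b)) => by
            change ρ (a * b * y) = ρ (y * (a * b))
            rw [mul_assoc, map_mul, hb, ← map_mul, ← mul_assoc, map_mul, ha, ← map_mul, mul_assoc]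
          one_mem' := by simp
          inv_mem' := fun {a} (ha : ρ (a * y) = ρ (y * a)) => by
            change ρ (a⁻¹ * y) = ρ (y * a⁻¹)
            rw [show a⁻¹ * y = a⁻¹ * (y * a) * a⁻¹ by group, map_mul, map_mul ρ a⁻¹, ← ha, ← map_mul,
              ← map_mul]
            congr 1
            group }
      have hAC : A ≤ C := sup_le (fun z hz => hz y) (by rw [Subgroup.zpowers_le]; exact (rfl : ρ (y * y) = ρ (y * y)))
      intro a ha
      let D : Subgroup G :=
        { carrier := {b | ρ (a * b) = ρ (b * a)}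
          mul_mem' := fun {b c} (hb : ρ (a * b) = ρ (b * a)) (hc : ρ (a * c) = ρ (c * a)) => by
            change ρ (a * (b * c)) = ρ (b * c * a)
            rw [← mul_assoc, map_mul, hb, ← map_mul, mul_assoc, map_mul, hc, ← map_mul, ← mul_assoc]
          one_mem' := by simp
          inv_mem' := fun {b} (hb : ρ (a * b) = ρ (b * a)) => by
            change ρ (a * b⁻¹) = ρ (b⁻¹ * a)
            rw [show a * b⁻¹ = b⁻¹ * (b * a) * b⁻¹ by group, map_mul, map_mul ρ b⁻¹, ← hb, ← map_mul,
              ← map_mul]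
            congr 1
            group }
      have hAD : A ≤ D := sup_le (fun z hz => (hz a).symm) (by rw [Subgroup.zpowers_le]; exact hAC ha)
      exact fun b hb => hAD hb
    obtain ⟨φ, hφ'⟩ := exists_restrict_constituent A ⟨χ, hχ⟩
    have hne : Cfsg.classInner (fun a : A => χ a) (φ : A → ℂ) ≠ 0 := by
      rw [classInner_comm, Ne, map_eq_zero]
      exact hφ'
    have hT : inertia (φ : A → ℂ) ≠ ⊤ := by
      intro htop
      have hres := restrict_eq_smul_of_invariant hχ φ.2
        (fun g => mem_inertia.mp (show g ∈ inertia (φ : A → ℂ) from htop ▸ Subgroup.mem_top g)) hne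
      obtain ⟨k, σ, hσ, hσφ⟩ := φ.2
      have hker : ∀ a b : A, (φ : A → ℂ) (a * b * a⁻¹ * b⁻¹) = (φ : A → ℂ) 1 := by
        intro a b
        have h1 : χ ((a * b * a⁻¹ * b⁻¹ : A) : G) = χ 1 := by
          have h2 : ρ ((a : G) * b * (a : G)⁻¹ * (b : G)⁻¹) = 1 := by
            rw [mul_assoc, map_mul, hAc _ a.2 _ b.2, ← map_mul,
              show (b : G) * a * ((a : G)⁻¹ * (b : G)⁻¹) = 1 by group, map_one]
          rw [← hρχ, Representation.character, Representation.character, map_one]
          push_cast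
          rw [h2]
        have h3 := congrFun hres (a * b * a⁻¹ * b⁻¹)
        have h4 := congrFun hres 1
        simp only [Pi.smul_apply, smul_eq_mul, Subgroup.coe_one] at h3 h4
        rw [h1, h4] at h3
        exact (mul_left_cancel₀ hne h3).symm
      have hcomm : ∀ a b : A, σ (a * b) = σ (b * a) := by
        intro a b
        have h2 := eq_id_of_character_eq σ (a * b * a⁻¹ * b⁻¹) (by rw [hσφ]; exact hker a b)
        have h5 : a * b = a * b * a⁻¹ * b⁻¹ * (b * a) := by group
        rw [h5, map_mul, h2]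
        rfl
      have hφ1 : (φ : A → ℂ) 1 = 1 := by
        have hdvd := finrank_dvd_index_of_scalar hσ (⊤ : Subgroup A) fun z _ => schur_scalar hσ (σ z) fun g => by
          rw [← map_mul, ← map_mul]
          exact hcomm z g
        rw [Subgroup.index_top, Nat.dvd_one] at hdvd
        rw [← hσφ, Representation.char_one, hdvd, Nat.cast_one]
      obtain ⟨c, hc⟩ : ∃ c : ℂ, ρ y = c • 1 := by
        have hall : ∀ g : G, ρ (g * y * g⁻¹) = ρ y := by
          intro g
          obtain ⟨z, hz⟩ := schur_scalar hρ (ρ (g * y * g⁻¹ * y⁻¹)) fun x => by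
            rw [← map_mul, ← map_mul, hy g x]
          have hzy : ρ (g * y * g⁻¹) = z • ρ y := by
            rw [show g * y * g⁻¹ = g * y * g⁻¹ * y⁻¹ * y by group, map_mul, hz, smul_one_mul]
          have hz1 : z = 1 := by
            have e1 : χ (g * y * g⁻¹) = z * χ y := by
              rw [← hρχ, Representation.character, Representation.character, hzy, map_smul, smul_eq_mul]
            have e2 : χ (g * y * g⁻¹) = χ y := CfsgLib.CharBasics.isClassFunction (isCharacter_of_irr hχ) y g
            rw [e2] at e1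
            by_contra hz1
            have hy0 : χ y = 0 := by
              by_contra h0
              exact hz1 (mul_right_cancel₀ h0 (e1.symm.trans (one_mul _).symm))
            have h6 := congrFun hres ⟨y, hyA⟩
            simp only [Pi.smul_apply, smul_eq_mul, hy0] at h6
            rcases mul_eq_zero.mp h6.symm with h7 | h7
            · exact hne h7
            · obtain ⟨f, hf⟩ := exists_hom_of_linear (isCharacter_of_irr φ.2) hφ1
              rw [hf] at h7
              exact (f.toHomUnits ⟨y, hyA⟩).ne_zero h7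
          rw [hzy, hz1, one_smul]
        refine schur_scalar hρ (ρ y) fun g => ?_
        rw [← map_mul, ← map_mul]
        have := hall g
        rw [show g * y = g * y * g⁻¹ * g by group, map_mul ρ (g * y * g⁻¹), this, map_mul]
      refine hyZ fun x => ?_
      rw [map_mul, map_mul, hc, smul_one_mul, mul_smul_one]
    have hAT : A ≤ inertia (φ : A → ℂ) := le_inertia (CfsgLib.CharBasics.isClassFunction (isCharacter_of_irr φ.2))
    set T := inertia (φ : A → ℂ) with hTdef
    obtain ⟨ψ, hψ, hind, -, -⟩ := exists_inertia_correspondent hχ φ.2 hne T rfl hAT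
    have hlt : Nat.card T < n := by
      rw [← hn]
      exact lt_of_le_of_ne (Subgroup.card_le_card_group T) fun h => hT (Subgroup.eq_top_of_card_eq _ h)
    obtain ⟨H, lam, hlam⟩ := ih _ hlt T rfl ψ hψ
    refine ⟨H.map T.subtype,
      lam.comp (H.equivMapOfInjective T.subtype T.subtype_injective).symm.toMonoidHom, ?_⟩
    rw [← hind, hlam, CfsgLib.BrauerInd.indFun_trans]
    rfl

end CfsgLib.Clifford
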