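import Mathlib
import Cfsg.Prelude.Def_ParabolicCharacters
import Cfsg.Agent.CharBasics.Induced
import Cfsg.Agent.IndFun.Basic
import Cfsg.Agent.Clifford.LinChar

/-!
Inner products of characters induced from a subgroup with two double cosets, and the principal series of
the general and special linear groups of degree two.
-/

set_option autoImplicit false

namespace CfsgLib.PrincipalSeries

open scoped ComplexConjugate
open CfsgLib.CharBasics CfsgLib.IndFun

universe u

/-- Mackey's formula for two double cosets. -/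
theorem two_coset_inner {G : Type u} [Group G] [Fintype G] (B : Subgroup G) [Fintype B] {ι : Type*} [Fintype ι]
    (w : G) (U : ι → B)
    (hout : ∀ x : G, x ∉ B → ∃! i, ((U i : G) * w)⁻¹ * x ∈ B) (hw : ∀ i, (U i : G) * w ∉ B)
    (a b : B → ℂ) (ha : Cfsg.IsClassFunction B a) (hb : Cfsg.IsClassFunction B b) :
    Cfsg.classInner (Cfsg.indFun B a) (Cfsg.indFun B b) = Cfsg.classInner a b +
      (Fintype.card ι : ℂ) * (Nat.card B : ℂ)⁻¹ *
        ∑ y : B, a y * conj (Cfsg.extendByZero B b (w⁻¹ * y * w)) := by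
  classical
  set M := ∑ y : B, a y * conj (Cfsg.extendByZero B b (w⁻¹ * y * w)) with hM
  have hconj : ∀ (θ : B → ℂ), Cfsg.IsClassFunction B θ → ∀ (v : B) (z : G),
      Cfsg.extendByZero B θ ((v : G)⁻¹ * z * v) = Cfsg.extendByZero B θ z := by
    intro θ hθ v z
    by_cases hz : z ∈ B
    · rw [extendByZero_mem _ hz, extendByZero_mem _ (B.mul_mem (B.mul_mem (B.inv_mem v.2) hz) v.2)]
      have := hθ ⟨z, hz⟩ v⁻¹
      rw [inv_inv] at this
      exact this
    · rw [extendByZero_not_mem _ hz, extendByZero_not_mem]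
      intro h
      apply hz
      have := B.mul_mem (B.mul_mem v.2 h) (B.inv_mem v.2)
      simpa [mul_assoc] using this
  have hin : ∀ x ∈ Finset.univ.filter (fun x : G => x ∈ B),
      ∑ y : B, a y * conj (Cfsg.extendByZero B b (x⁻¹ * y * x)) = ∑ y : B, a y * conj (b y) := by
    intro x hx
    refine Finset.sum_congr rfl fun y _ => ?_
    rw [hconj b hb ⟨x, (Finset.mem_filter.mp hx).2⟩ y, extendByZero_mem _ y.2]
  have hox : ∀ x ∈ Finset.univ.filter (fun x : G => x ∉ B),
      ∑ y : B, a y * conj (Cfsg.extendByZero B b (x⁻¹ * y * x)) = M := by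
    intro x hx
    obtain ⟨i, hi, -⟩ := hout x (Finset.mem_filter.mp hx).2
    rw [hM, ← (MulAut.conj (U i)).toEquiv.sum_comp]
    refine Finset.sum_congr rfl fun y _ => ?_
    change a (U i * y * (U i)⁻¹) * _ = _
    rw [ha y (U i)]
    congr 2
    have h := hconj b hb ⟨_, hi⟩ (w⁻¹ * (y : G) * w)
    rw [← h]
    congr 1
    simp [mul_assoc]
  have hcout : (Finset.univ.filter (fun x : G => x ∉ B)).card = Fintype.card ι * Nat.card B := by
    rw [Nat.card_eq_fintype_card, ← Fintype.card_prod, ← Fintype.card_subtype]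
    refine (Fintype.card_of_bijective (f := fun p : ι × B => (⟨(U p.1 : G) * w * p.2, fun h => hw p.1 (by
      simpa using B.mul_mem h (B.inv_mem p.2.2))⟩ : {x : G // x ∉ B})) ⟨?_, ?_⟩).symm
    · intro p p' h
      have h1 : (U p.1 : G) * w * p.2 = (U p'.1 : G) * w * p'.2 := congrArg Subtype.val h
      have hp : p.1 = p'.1 := by
        refine (hout ((U p.1 : G) * w * p.2) (fun hh => hw p.1 (by
          simpa using B.mul_mem hh (B.inv_mem p.2.2)))).unique (by simp [mul_assoc]) ?_
        rw [h1]; simp [mul_assoc]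
      rw [hp] at h1
      exact Prod.ext hp (Subtype.ext (mul_left_cancel h1))
    · rintro ⟨x, hx⟩
      obtain ⟨i, hi, -⟩ := hout x hx
      exact ⟨(i, ⟨_, hi⟩), Subtype.ext (mul_inv_cancel_left _ _)⟩
  have hcin : (Finset.univ.filter (fun x : G => x ∈ B)).card = Nat.card B := by
    rw [Nat.card_eq_fintype_card, Fintype.card_subtype]
  have hB : (Nat.card B : ℂ) ≠ 0 := Nat.cast_ne_zero.mpr Nat.card_pos.ne'
  rw [classInner_indFun B a (isClassFunction_indFun B b), classInner_eq, classInner_eq]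
  simp only [Cfsg.indFun, map_mul, map_inv₀, Complex.conj_natCast, map_sum, Finset.mul_sum]
  rw [Finset.sum_comm, ← Finset.sum_filter_add_sum_filter_not Finset.univ (fun x : G => x ∈ B)]
  have hre : ∀ (s : Finset G) (c : ℂ), (∀ x ∈ s, ∑ y : B, a y * conj (Cfsg.extendByZero B b (x⁻¹ * y * x)) = c) →
      ∑ x ∈ s, ∑ y : B, (Nat.card B : ℂ)⁻¹ * (a y * ((Nat.card B : ℂ)⁻¹ * conj (Cfsg.extendByZero B b (x⁻¹ * y * x)))) =
        (s.card : ℂ) * ((Nat.card B : ℂ)⁻¹ * (Nat.card B : ℂ)⁻¹ * c) := by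
    intro s c hc
    rw [← nsmul_eq_mul, ← Finset.sum_const]
    refine Finset.sum_congr rfl fun x hx => ?_
    rw [← hc x hx, Finset.mul_sum]
    exact Finset.sum_congr rfl fun y _ => by ring
  rw [hre _ _ hin, hre _ _ hox, hcin, hcout]
  simp only [← Finset.mul_sum]
  push_cast
  field_simp

variable {F : Type u} [Field F] [Fintype F] [DecidableEq F]

theorem sum_units_mulChar (α β : MulChar F ℂ) :
    ∑ p : Fˣ, α p * conj (β p) = if α = β then (Nat.card Fˣ : ℂ) else 0 := by
  have h : ∀ p : Fˣ, α p * conj (β p) = (α * β⁻¹) p := fun p => by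
    rw [MulChar.mul_apply, ← MulChar.star_eq_inv, MulChar.star_apply, starRingEnd_apply]
  rw [Finset.sum_congr rfl fun p _ => h p]
  split_ifs with he
  · subst he
    simp [MulChar.one_apply_coe]
  · obtain ⟨u, hu⟩ := MulChar.ne_one_iff.mp (fun h' => he (mul_inv_eq_one.mp h') : α * β⁻¹ ≠ 1)
    have h1 : (α * β⁻¹) u * ∑ p : Fˣ, (α * β⁻¹) p = ∑ p : Fˣ, (α * β⁻¹) p := by
      rw [Finset.mul_sum]
      exact Fintype.sum_equiv (Equiv.mulLeft u) _ _ fun p => by simp; ring
    have h2 := sub_mul ((α * β⁻¹) u) 1 (∑ p : Fˣ, (α * β⁻¹) p)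
    rw [h1, one_mul, sub_self] at h2
    exact (mul_eq_zero.mp h2).resolve_left (sub_ne_zero.mpr hu)

/-- A linear character of the upper triangular matrices. -/
noncomputable def borelChar (α β : MulChar F ℂ) (b : Cfsg.upperTriangularGL 2 F) : ℂ :=
  α (((b : Matrix.GeneralLinearGroup (Fin 2) F) : Matrix (Fin 2) (Fin 2) F) 0 0) *
    β (((b : Matrix.GeneralLinearGroup (Fin 2) F) : Matrix (Fin 2) (Fin 2) F) 1 1)

omit [Fintype F] [DecidableEq F] in
theorem mem_borel_iff (g : Matrix.GeneralLinearGroup (Fin 2) F) :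
    g ∈ Cfsg.upperTriangularGL 2 F ↔ (g : Matrix (Fin 2) (Fin 2) F) 1 0 = 0 := by
  constructor
  · intro h; exact h (show id (0 : Fin 2) < id (1 : Fin 2) by decide)
  · intro h i j hij
    fin_cases i <;> fin_cases j <;> first | exact h | simp at hij

omit [Fintype F] [DecidableEq F] in
theorem borel_diag_ne_zero (b : Cfsg.upperTriangularGL 2 F) :
    ((b : Matrix.GeneralLinearGroup (Fin 2) F) : Matrix (Fin 2) (Fin 2) F) 0 0 ≠ 0 ∧
    ((b : Matrix.GeneralLinearGroup (Fin 2) F) : Matrix (Fin 2) (Fin 2) F) 1 1 ≠ 0 := by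
  have h := (Matrix.isUnit_iff_isUnit_det _).mp (b : Matrix.GeneralLinearGroup (Fin 2) F).isUnit
  rw [Matrix.det_fin_two, (mem_borel_iff _).mp b.2, mul_zero, sub_zero] at h
  exact mul_ne_zero_iff.mp h.ne_zero

/-- The linear character as a homomorphism. -/
noncomputable def borelHom (α β : MulChar F ℂ) : Cfsg.upperTriangularGL 2 F →* ℂ where
  toFun := borelChar α β
  map_one' := by simp [borelChar]
  map_mul' x y := by
    simp only [borelChar, Subgroup.coe_mul, Units.val_mul, Matrix.mul_apply, Fin.sum_univ_two,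
      (mem_borel_iff _).mp x.2, (mem_borel_iff _).mp y.2, mul_zero, zero_mul, add_zero, zero_add, map_mul]
    ring

omit [Fintype F] [DecidableEq F] in
theorem isClassFunction_borelChar (α β : MulChar F ℂ) :
    Cfsg.IsClassFunction (Cfsg.upperTriangularGL 2 F) (borelChar α β) := by
  intro g x
  change borelHom α β (x * g * x⁻¹) = borelHom α β g
  rw [map_mul, map_mul, mul_comm (borelHom α β x), mul_assoc, ← map_mul, mul_inv_cancel, map_one, mul_one]

omit [Fintype F] [DecidableEq F] in
theorem isCharacter_borelChar (α β : MulChar F ℂ) :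
    Cfsg.IsCharacter (Cfsg.upperTriangularGL 2 F) (borelChar α β) :=
  CfsgLib.Clifford.isCharacter_of_hom (borelHom α β)

/-- Entries of a Borel element, as a product of parameters. -/
noncomputable def borelEquiv : Cfsg.upperTriangularGL 2 F ≃ (Fˣ × Fˣ) × F where
  toFun b := ((Units.mk0 _ (borel_diag_ne_zero b).1, Units.mk0 _ (borel_diag_ne_zero b).2),
    ((b : Matrix.GeneralLinearGroup (Fin 2) F) : Matrix (Fin 2) (Fin 2) F) 0 1)
  invFun p := ⟨Matrix.GeneralLinearGroup.mkOfDetNeZero !![(p.1.1 : F), p.2; 0, (p.1.2 : F)]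
    (by simp [Matrix.det_fin_two]), (mem_borel_iff _).mpr (by simp)⟩
  left_inv b := by
    refine Subtype.ext (Units.ext (Matrix.ext fun i j => ?_))
    fin_cases i <;> fin_cases j <;> simp [(mem_borel_iff _).mp b.2]
  right_inv p := by simp

omit [Fintype F] [DecidableEq F] in
theorem card_borel : Nat.card (Cfsg.upperTriangularGL 2 F) = Nat.card Fˣ * Nat.card Fˣ * Nat.card F := by
  rw [Nat.card_congr borelEquiv, Nat.card_prod, Nat.card_prod]

/-- The inner product of two members of the principal series. -/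
theorem inner_principal [Fintype (Matrix.GeneralLinearGroup (Fin 2) F)] (α β α' β' : MulChar F ℂ) :
    Cfsg.classInner (Cfsg.indFun (Cfsg.upperTriangularGL 2 F) (borelChar α β))
      (Cfsg.indFun (Cfsg.upperTriangularGL 2 F) (borelChar α' β')) =
      (if α = α' ∧ β = β' then 1 else 0) + (if α = β' ∧ β = α' then 1 else 0) := by
  classical
  have := Fintype.ofFinite (Cfsg.upperTriangularGL 2 F)
  let w : Matrix.GeneralLinearGroup (Fin 2) F :=
    Matrix.GeneralLinearGroup.mkOfDetNeZero !![0, -1; 1, 0] (by simp [Matrix.det_fin_two])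
  let U : F → Cfsg.upperTriangularGL 2 F := fun c => borelEquiv.symm ((1, 1), c)
  have hwinv : ((w⁻¹ : Matrix.GeneralLinearGroup (Fin 2) F) : Matrix (Fin 2) (Fin 2) F) = !![0, 1; -1, 0] := by
    rw [Matrix.coe_units_inv]
    refine Matrix.inv_eq_right_inv ?_
    ext i j; fin_cases i <;> fin_cases j <;> simp [w, Matrix.mul_apply, Fin.sum_univ_two]
  have hUinv : ∀ c, (((U c : Matrix.GeneralLinearGroup (Fin 2) F)⁻¹ : Matrix.GeneralLinearGroup (Fin 2) F) :
      Matrix (Fin 2) (Fin 2) F) = !![1, -c; 0, 1] := fun c => by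
    rw [Matrix.coe_units_inv]
    refine Matrix.inv_eq_right_inv ?_
    ext i j; fin_cases i <;> fin_cases j <;> simp [U, borelEquiv, Matrix.mul_apply, Fin.sum_univ_two]
  have hmem : ∀ c (x : Matrix.GeneralLinearGroup (Fin 2) F),
      ((U c : Matrix.GeneralLinearGroup (Fin 2) F) * w)⁻¹ * x ∈ Cfsg.upperTriangularGL 2 F ↔
        (x : Matrix (Fin 2) (Fin 2) F) 0 0 = c * (x : Matrix (Fin 2) (Fin 2) F) 1 0 := by
    intro c x
    rw [mem_borel_iff, mul_inv_rev]
    simp only [Units.val_mul, hwinv, hUinv, Matrix.mul_apply, Fin.sum_univ_two]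
    simp
    constructor
    · intro h; linear_combination -h
    · intro h; linear_combination -h
  rw [two_coset_inner (Cfsg.upperTriangularGL 2 F) w U (fun x hx => ?_) (fun c => ?_) _ _
    (isClassFunction_borelChar α β) (isClassFunction_borelChar α' β')]
  rotate_left
  · have hx0 : (x : Matrix (Fin 2) (Fin 2) F) 1 0 ≠ 0 := fun h => hx ((mem_borel_iff x).mpr h)
    refine ⟨(x : Matrix (Fin 2) (Fin 2) F) 0 0 / (x : Matrix (Fin 2) (Fin 2) F) 1 0, (hmem _ x).mpr (by field_simp),
      fun c hc => ?_⟩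
    rw [eq_div_iff hx0]
    exact ((hmem c x).mp hc).symm
  · rw [mem_borel_iff]
    simp [U, borelEquiv, w, Matrix.mul_apply, Fin.sum_univ_two]
  have hS1 : ∑ y : Cfsg.upperTriangularGL 2 F, borelChar α β y * conj (borelChar α' β' y) =
      (Fintype.card F : ℂ) * ((∑ p : Fˣ, α p * conj (α' p)) * ∑ q : Fˣ, β q * conj (β' q)) := by
    rw [← borelEquiv.symm.sum_comp, Fintype.sum_prod_type, Fintype.sum_prod_type, Finset.sum_mul_sum, Finset.mul_sum]
    refine Finset.sum_congr rfl fun p _ => ?_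
    rw [Finset.mul_sum]
    refine Finset.sum_congr rfl fun q _ => ?_
    rw [← nsmul_eq_mul, ← Finset.card_univ, ← Finset.sum_const]
    refine Finset.sum_congr rfl fun c _ => ?_
    simp [borelChar, borelEquiv]
    ring
  have hS2 : ∑ y : Cfsg.upperTriangularGL 2 F, borelChar α β y *
      conj (Cfsg.extendByZero (Cfsg.upperTriangularGL 2 F) (borelChar α' β') (w⁻¹ * y * w)) =
      (∑ p : Fˣ, α p * conj (β' p)) * ∑ q : Fˣ, β q * conj (α' q) := by
    rw [← borelEquiv.symm.sum_comp, Fintype.sum_prod_type, Fintype.sum_prod_type, Finset.sum_mul_sum]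
    refine Finset.sum_congr rfl fun p _ => Finset.sum_congr rfl fun q _ => ?_
    rw [Finset.sum_eq_single 0]
    · have hm : w⁻¹ * (borelEquiv.symm ((p, q), (0 : F)) : Matrix.GeneralLinearGroup (Fin 2) F) * w ∈
          Cfsg.upperTriangularGL 2 F := by
        rw [mem_borel_iff]
        simp [borelEquiv, hwinv, w, Matrix.mul_apply, Fin.sum_univ_two]
      rw [extendByZero_mem _ hm]
      simp [borelChar, borelEquiv, hwinv, w, Matrix.mul_apply, Fin.sum_univ_two]
      ring
    · intro c _ hc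
      rw [extendByZero_not_mem, map_zero, mul_zero]
      rw [mem_borel_iff]
      simp [borelEquiv, hwinv, w, Matrix.mul_apply, Fin.sum_univ_two, hc]
    · simp
  rw [classInner_eq, hS1, hS2, sum_units_mulChar, sum_units_mulChar, sum_units_mulChar, sum_units_mulChar,
    card_borel, ← Nat.card_eq_fintype_card (α := F)]
  have hu : (Nat.card Fˣ : ℂ) ≠ 0 := Nat.cast_ne_zero.mpr Nat.card_pos.ne'
  have hF : (Nat.card F : ℂ) ≠ 0 := Nat.cast_ne_zero.mpr Nat.card_pos.ne'
  push_cast
  congr 1 <;> split_ifs <;> simp_all <;> field_simp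

end CfsgLib.PrincipalSeries
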