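import Mathlib
import Cfsg.Agent.Clifford.PrincipalSeries

/-!
The principal series of the special linear group of degree two.
-/

set_option autoImplicit false

namespace CfsgLib.PrincipalSeries

open scoped ComplexConjugate
open CfsgLib.CharBasics CfsgLib.IndFun

universe u

variable {F : Type u} [Field F] [Fintype F] [DecidableEq F]

/-- The upper triangular subgroup of the special linear group. -/
abbrev slBorel (F : Type u) [Field F] : Subgroup (Matrix.SpecialLinearGroup (Fin 2) F) :=
  (Cfsg.upperTriangularGL 2 F).comap Matrix.SpecialLinearGroup.toGL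

omit [Fintype F] [DecidableEq F] in
theorem mem_slBorel_iff (g : Matrix.SpecialLinearGroup (Fin 2) F) :
    g ∈ slBorel F ↔ (g : Matrix (Fin 2) (Fin 2) F) 1 0 = 0 := by
  rw [Subgroup.mem_comap, mem_borel_iff]
  rfl

omit [Fintype F] [DecidableEq F] in
theorem slBorel_mul (b : slBorel F) :
    ((b : Matrix.SpecialLinearGroup (Fin 2) F) : Matrix (Fin 2) (Fin 2) F) 0 0 *
      ((b : Matrix.SpecialLinearGroup (Fin 2) F) : Matrix (Fin 2) (Fin 2) F) 1 1 = 1 := by
  have h := (b : Matrix.SpecialLinearGroup (Fin 2) F).det_coe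
  rwa [Matrix.det_fin_two, (mem_slBorel_iff _).mp b.2, mul_zero, sub_zero] at h

/-- A linear character of the upper triangular subgroup. -/
noncomputable def slChar (α : MulChar F ℂ) (b : slBorel F) : ℂ :=
  α (((b : Matrix.SpecialLinearGroup (Fin 2) F) : Matrix (Fin 2) (Fin 2) F) 0 0)

/-- The linear character as a homomorphism. -/
noncomputable def slHom (α : MulChar F ℂ) : slBorel F →* ℂ where
  toFun := slChar α
  map_one' := by simp [slChar]
  map_mul' x y := by
    simp only [slChar, Subgroup.coe_mul, Matrix.SpecialLinearGroup.coe_mul, Matrix.mul_apply, Fin.sum_univ_two,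
      (mem_slBorel_iff _).mp y.2, mul_zero, add_zero, map_mul]

omit [Fintype F] [DecidableEq F] in
theorem isClassFunction_slChar (α : MulChar F ℂ) : Cfsg.IsClassFunction (slBorel F) (slChar α) := by
  intro g x
  change slHom α (x * g * x⁻¹) = slHom α g
  rw [map_mul, map_mul, mul_comm (slHom α x), mul_assoc, ← map_mul, mul_inv_cancel, map_one, mul_one]

/-- Parameters of the upper triangular elements. -/
noncomputable def slBorelEquiv : slBorel F ≃ Fˣ × F where
  toFun b := (Units.mk0 _ (left_ne_zero_of_mul_eq_one (slBorel_mul b)),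
    ((b : Matrix.SpecialLinearGroup (Fin 2) F) : Matrix (Fin 2) (Fin 2) F) 0 1)
  invFun p := ⟨⟨!![(p.1 : F), p.2; 0, (p.1 : F)⁻¹], by simp [Matrix.det_fin_two]⟩,
    (mem_slBorel_iff _).mpr (by simp)⟩
  left_inv b := by
    refine Subtype.ext (Subtype.ext (Matrix.ext fun i j => ?_))
    fin_cases i <;> fin_cases j <;>
      simp [(mem_slBorel_iff _).mp b.2, inv_eq_of_mul_eq_one_right (slBorel_mul b)]
  right_inv p := by simp

/-- The inner product of two members of the principal series. -/
theorem inner_sl [Fintype (Matrix.SpecialLinearGroup (Fin 2) F)] (α β : MulChar F ℂ) :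
    Cfsg.classInner (Cfsg.indFun (slBorel F) (slChar α)) (Cfsg.indFun (slBorel F) (slChar β)) =
      (if α = β then 1 else 0) + (if α * β = 1 then 1 else 0) := by
  classical
  have := Fintype.ofFinite (slBorel F)
  let w : Matrix.SpecialLinearGroup (Fin 2) F := ⟨!![0, -1; 1, 0], by simp [Matrix.det_fin_two]⟩
  let U : F → slBorel F := fun c => slBorelEquiv.symm (1, c)
  have hwM : ((w : Matrix.SpecialLinearGroup (Fin 2) F) : Matrix (Fin 2) (Fin 2) F) = !![0, -1; 1, 0] := rfl
  have hUM : ∀ c, ((U c : Matrix.SpecialLinearGroup (Fin 2) F) : Matrix (Fin 2) (Fin 2) F) = !![1, c; 0, 1] := fun c => by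
    ext i j; fin_cases i <;> fin_cases j <;> simp [U, slBorelEquiv]
  have hPM : ∀ (p : Fˣ) (c : F), ((slBorelEquiv.symm (p, c) : Matrix.SpecialLinearGroup (Fin 2) F) :
      Matrix (Fin 2) (Fin 2) F) = !![(p : F), c; 0, (p : F)⁻¹] := fun p c => rfl
  have hmem : ∀ c (x : Matrix.SpecialLinearGroup (Fin 2) F),
      ((U c : Matrix.SpecialLinearGroup (Fin 2) F) * w)⁻¹ * x ∈ slBorel F ↔
        (x : Matrix (Fin 2) (Fin 2) F) 0 0 = c * (x : Matrix (Fin 2) (Fin 2) F) 1 0 := by
    intro c x
    rw [mem_slBorel_iff, Matrix.SpecialLinearGroup.coe_mul, Matrix.SpecialLinearGroup.coe_inv,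
      Matrix.SpecialLinearGroup.coe_mul, hwM, hUM]
    simp [Matrix.adjugate_fin_two, Matrix.mul_apply, Fin.sum_univ_two]
    constructor
    · intro h; linear_combination -h
    · intro h; linear_combination -h
  rw [two_coset_inner (slBorel F) w U (fun x hx => ?_) (fun c => ?_) _ _
    (isClassFunction_slChar α) (isClassFunction_slChar β)]
  rotate_left
  · have hx0 : (x : Matrix (Fin 2) (Fin 2) F) 1 0 ≠ 0 := fun h => hx ((mem_slBorel_iff x).mpr h)
    refine ⟨(x : Matrix (Fin 2) (Fin 2) F) 0 0 / (x : Matrix (Fin 2) (Fin 2) F) 1 0, (hmem _ x).mpr (by field_simp),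
      fun c hc => ?_⟩
    rw [eq_div_iff hx0]
    exact ((hmem c x).mp hc).symm
  · rw [mem_slBorel_iff, Matrix.SpecialLinearGroup.coe_mul, hwM, hUM]
    simp [Matrix.mul_apply, Fin.sum_univ_two]
  have hS1 : ∑ y : slBorel F, slChar α y * conj (slChar β y) =
      (Fintype.card F : ℂ) * ∑ p : Fˣ, α p * conj (β p) := by
    rw [← slBorelEquiv.symm.sum_comp, Fintype.sum_prod_type, Finset.mul_sum]
    refine Finset.sum_congr rfl fun p _ => ?_
    rw [← nsmul_eq_mul, ← Finset.card_univ, ← Finset.sum_const]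
    refine Finset.sum_congr rfl fun c _ => ?_
    simp [slChar, slBorelEquiv]
  have hS2 : ∑ y : slBorel F, slChar α y * conj (Cfsg.extendByZero (slBorel F) (slChar β) (w⁻¹ * y * w)) =
      ∑ p : Fˣ, α p * conj (β⁻¹ p) := by
    rw [← slBorelEquiv.symm.sum_comp, Fintype.sum_prod_type]
    refine Finset.sum_congr rfl fun p _ => ?_
    rw [Finset.sum_eq_single 0]
    · have hm : w⁻¹ * (slBorelEquiv.symm (p, (0 : F)) : Matrix.SpecialLinearGroup (Fin 2) F) * w ∈ slBorel F := by
        rw [mem_slBorel_iff, Matrix.SpecialLinearGroup.coe_mul, Matrix.SpecialLinearGroup.coe_mul,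
          Matrix.SpecialLinearGroup.coe_inv, hwM, hPM]
        simp [Matrix.adjugate_fin_two, Matrix.mul_apply, Fin.sum_univ_two]
      rw [extendByZero_mem _ hm, slChar, slChar, hPM]
      simp only [Matrix.SpecialLinearGroup.coe_mul, Matrix.SpecialLinearGroup.coe_inv, hwM, hPM]
      simp [Matrix.adjugate_fin_two, Matrix.mul_apply, Fin.sum_univ_two, MulChar.inv_apply']
    · intro c _ hc
      rw [extendByZero_not_mem, map_zero, mul_zero]
      rw [mem_slBorel_iff, Matrix.SpecialLinearGroup.coe_mul, Matrix.SpecialLinearGroup.coe_mul,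
        Matrix.SpecialLinearGroup.coe_inv, hwM, hPM]
      simp [Matrix.adjugate_fin_two, Matrix.mul_apply, Fin.sum_univ_two, hc]
    · simp
  rw [classInner_eq, hS1, hS2, sum_units_mulChar, sum_units_mulChar, Nat.card_congr slBorelEquiv, Nat.card_prod,
    ← Nat.card_eq_fintype_card (α := F)]
  simp only [← mul_eq_one_iff_eq_inv]
  have hu : (Nat.card Fˣ : ℂ) ≠ 0 := Nat.cast_ne_zero.mpr Nat.card_pos.ne'
  have hF : (Nat.card F : ℂ) ≠ 0 := Nat.cast_ne_zero.mpr Nat.card_pos.ne'
  push_cast
  congr 1 <;> split_ifs <;> simp_all <;> field_simp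

/-- The general linear principal series restricts to the special linear one. -/
theorem indFun_borel_toGL [Fintype (Matrix.GeneralLinearGroup (Fin 2) F)]
    [Fintype (Matrix.SpecialLinearGroup (Fin 2) F)] (α : MulChar F ℂ) (g : Matrix.SpecialLinearGroup (Fin 2) F) :
    Cfsg.indFun (Cfsg.upperTriangularGL 2 F) (borelChar α 1) (Matrix.SpecialLinearGroup.toGL g) =
      Cfsg.indFun (slBorel F) (slChar α) g := by
  classical
  let t : Fˣ → Cfsg.upperTriangularGL 2 F := fun d => borelEquiv.symm ((d, 1), 0)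
  have hext : ∀ z : Matrix.SpecialLinearGroup (Fin 2) F,
      Cfsg.extendByZero (Cfsg.upperTriangularGL 2 F) (borelChar α 1) (Matrix.SpecialLinearGroup.toGL z) =
        Cfsg.extendByZero (slBorel F) (slChar α) z := by
    intro z
    by_cases hz : z ∈ slBorel F
    · rw [extendByZero_mem _ hz, extendByZero_mem _ (Subgroup.mem_comap.mp hz)]
      simp only [borelChar, slChar]
      rw [MulChar.one_apply (Ne.isUnit (borel_diag_ne_zero ⟨_, Subgroup.mem_comap.mp hz⟩).2), mul_one]
      rfl
    · rw [extendByZero_not_mem _ hz, extendByZero_not_mem _ fun h => hz (Subgroup.mem_comap.mpr h)]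
  have hconj : ∀ (v : Cfsg.upperTriangularGL 2 F) (z : Matrix.GeneralLinearGroup (Fin 2) F),
      Cfsg.extendByZero (Cfsg.upperTriangularGL 2 F) (borelChar α 1) ((v : Matrix.GeneralLinearGroup (Fin 2) F)⁻¹ * z * v) =
        Cfsg.extendByZero (Cfsg.upperTriangularGL 2 F) (borelChar α 1) z := by
    intro v z
    by_cases hz : z ∈ Cfsg.upperTriangularGL 2 F
    · rw [extendByZero_mem _ hz, extendByZero_mem _
        (Subgroup.mul_mem _ (Subgroup.mul_mem _ (Subgroup.inv_mem _ v.2) hz) v.2)]
      have := isClassFunction_borelChar α 1 ⟨z, hz⟩ v⁻¹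
      rw [inv_inv] at this
      exact this
    · rw [extendByZero_not_mem _ hz, extendByZero_not_mem]
      intro h
      apply hz
      have := Subgroup.mul_mem _ (Subgroup.mul_mem _ v.2 h) (Subgroup.inv_mem _ v.2)
      simpa [mul_assoc] using this
  let f : Matrix.SpecialLinearGroup (Fin 2) F × Fˣ → Matrix.GeneralLinearGroup (Fin 2) F :=
    fun p => Matrix.SpecialLinearGroup.toGL p.1 * t p.2
  have hdet : ∀ p, ((f p : Matrix.GeneralLinearGroup (Fin 2) F) : Matrix (Fin 2) (Fin 2) F).det = (p.2 : F) := fun p => by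
    simp only [f, Units.val_mul, Matrix.det_mul]
    rw [show (Matrix.SpecialLinearGroup.toGL p.1 : Matrix (Fin 2) (Fin 2) F).det = 1 from p.1.det_coe, one_mul]
    simp [t, borelEquiv, Matrix.det_fin_two]
  have hbij : Function.Bijective f := by
    constructor
    · intro p p' h
      have h2 : p.2 = p'.2 := Units.ext (by rw [← hdet p, ← hdet p', h])
      have h1 : Matrix.SpecialLinearGroup.toGL p.1 = Matrix.SpecialLinearGroup.toGL p'.1 := by
        simp only [f, h2] at h
        exact mul_right_cancel h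
      exact Prod.ext (Matrix.SpecialLinearGroup.toGL_injective h1) h2
    · intro x
      have hx := (Matrix.isUnit_iff_isUnit_det _).mp x.isUnit
      let d : Fˣ := hx.unit
      refine ⟨(⟨((x * (t d : Matrix.GeneralLinearGroup (Fin 2) F)⁻¹ : Matrix.GeneralLinearGroup (Fin 2) F) :
        Matrix (Fin 2) (Fin 2) F), ?_⟩, d), ?_⟩
      · have h2 := congrArg Matrix.det
          (congrArg Units.val (inv_mul_cancel_right x (t d : Matrix.GeneralLinearGroup (Fin 2) F)))
        rw [Units.val_mul, Matrix.det_mul,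
          show ((t d : Matrix.GeneralLinearGroup (Fin 2) F) : Matrix (Fin 2) (Fin 2) F).det = (d : F) by
            simp [t, borelEquiv, Matrix.det_fin_two], IsUnit.unit_spec] at h2
        exact (mul_eq_right₀ hx.ne_zero).mp h2
      · refine Eq.trans ?_ (inv_mul_cancel_right x (t d : Matrix.GeneralLinearGroup (Fin 2) F))
        simp only [f]
        congr 1
        exact Units.ext rfl
  have hu : (Nat.card Fˣ : ℂ) ≠ 0 := Nat.cast_ne_zero.mpr Nat.card_pos.ne'
  have hF : (Nat.card F : ℂ) ≠ 0 := Nat.cast_ne_zero.mpr Nat.card_pos.ne'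
  rw [Cfsg.indFun, Cfsg.indFun, ← (Equiv.ofBijective f hbij).sum_comp, Fintype.sum_prod_type, card_borel,
    Nat.card_congr slBorelEquiv, Nat.card_prod]
  have hterm : ∀ (s : Matrix.SpecialLinearGroup (Fin 2) F) (d : Fˣ),
      Cfsg.extendByZero (Cfsg.upperTriangularGL 2 F) (borelChar α 1)
        ((Equiv.ofBijective f hbij (s, d))⁻¹ * Matrix.SpecialLinearGroup.toGL g * Equiv.ofBijective f hbij (s, d)) =
      Cfsg.extendByZero (slBorel F) (slChar α) (s⁻¹ * g * s) := by
    intro s d
    rw [← hext, map_mul, map_mul, map_inv, ← hconj (t d) ((Matrix.SpecialLinearGroup.toGL s)⁻¹ * Matrix.SpecialLinearGroup.toGL g * Matrix.SpecialLinearGroup.toGL s)]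
    congr 1
    change (Matrix.SpecialLinearGroup.toGL s * (t d : Matrix.GeneralLinearGroup (Fin 2) F))⁻¹ * _ *
      (Matrix.SpecialLinearGroup.toGL s * (t d : Matrix.GeneralLinearGroup (Fin 2) F)) = _
    group
  simp only [hterm, Finset.sum_const, nsmul_eq_mul, ← Finset.mul_sum, Finset.card_univ]
  rw [← Nat.card_eq_fintype_card (α := Fˣ)]
  push_cast
  field_simp

end CfsgLib.PrincipalSeries
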