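import Cfsg.Agent.Clifford.ExtCriteria
import Cfsg.Agent.Clifford.Ito
import Cfsg.Agent.CharBasics.Ortho
import Cfsg.Agent.PReduced.PIrreducible
import Cfsg.Agent.Transfer.Residual

/-!
Characters over `O^p(G)`: restriction of characters of degree prime to `p`, and canonical extensions.
-/

set_option autoImplicit false

namespace CfsgLib.Clifford

open Cfsg CfsgLib.CharBasics

variable {G : Type*} [Group G] [Finite G] {p : ℕ}

/-- A character of degree prime to `p` stays irreducible on a normal subgroup of `p`-power index. -/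
theorem isIrr_restrict_of_pow_index (hp : p.Prime) (N : Subgroup G) [N.Normal] {k : ℕ} (hidx : N.index = p ^ k)
    {χ : G → ℂ} (hχ : IsIrrCharacter G χ) (hd : ¬ p ∣ charDegree χ) :
    IsIrrCharacter N (fun n : N => χ n) := by
  classical
  haveI := Fintype.ofFinite G
  haveI := Fintype.ofFinite N
  obtain ⟨θ, hθ⟩ := exists_restrict_constituent N ⟨χ, hχ⟩
  have hne : classInner (fun n : N => χ n) (θ : N → ℂ) ≠ 0 := by
    rw [classInner_comm, Ne, map_eq_zero]; exact hθ
  obtain ⟨e, he⟩ := classInner_characters_nat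
    (CfsgLib.CharBasics.isCharacter_restrict (isCharacter_of_irr hχ) N) (isCharacter_of_irr θ.2)
  change classInner (fun n : N => χ n) (θ : N → ℂ) = (e : ℂ) at he
  have h1 := restrict_one_eq hχ θ.2 hne
  rw [he, apply_one (isCharacter_of_irr hχ), apply_one (isCharacter_of_irr θ.2), ← Nat.cast_mul, ← Nat.cast_mul,
    Nat.cast_inj] at h1
  have hsmall : ∀ d, d ∣ p ^ k → d ∣ charDegree χ → d = 1 := fun d h h' => by
    obtain ⟨i, -, rfl⟩ := (Nat.dvd_prime_pow hp).1 h
    rcases Nat.eq_zero_or_pos i with rfl | hi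
    · exact pow_zero p
    · exact absurd ((dvd_pow_self p hi.ne').trans h') hd
  have ht : (inertia (θ : N → ℂ)).index = 1 := hsmall _
    (hidx ▸ Subgroup.index_dvd_of_le (le_inertia (isClassFunction (isCharacter_of_irr θ.2))))
    ⟨e * charDegree (θ : N → ℂ), by rw [h1]; ring⟩
  rw [Subgroup.index_eq_one] at ht
  have hinv : ∀ g : G, conjFun g (θ : N → ℂ) = (θ : N → ℂ) := fun g =>
    mem_inertia.1 (ht ▸ Subgroup.mem_top g)
  have hres : ∀ n : N, χ n = (e : ℂ) * (θ : N → ℂ) n := fun n => by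
    have := congrFun (restrict_eq_smul_of_invariant hχ θ.2 hinv hne) n
    rwa [Pi.smul_apply, smul_eq_mul, he] at this
  have he1 : e = 1 := hsmall _ (hidx ▸ charMult_dvd_index hχ θ.2 hinv e hres)
    ⟨(inertia (θ : N → ℂ)).index * charDegree (θ : N → ℂ), by rw [h1]; ring⟩
  rw [show (fun n : N => χ n) = (θ : N → ℂ) from funext fun n => by rw [hres, he1, Nat.cast_one, one_mul]]
  exact θ.2

variable [hp : Fact p.Prime]

/-- An invariant homomorphism of `O^p(G)` into the units has order prime to `p`. -/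
theorem not_dvd_orderOf_invariant_hom (N : Subgroup G) [hN : N.Normal] (hN' : N = Cfsg.pResidual p G)
    (m : N →* ℂˣ) (hm : ∀ (g : G) (n : N), m ⟨g * n * g⁻¹, hN.conj_mem (n : G) n.2 g⟩ = m n) :
    ¬ p ∣ orderOf m := by
  intro hdvd
  have hfin : IsOfFinOrder m := isOfFinOrder_iff_pow_eq_one.2 ⟨Nat.card N, Nat.card_pos,
    MonoidHom.ext fun n => by rw [MonoidHom.pow_apply, ← map_pow, pow_card_eq_one', map_one]; rfl⟩
  let l := m ^ (orderOf m / p)
  have hl : ∀ (g : G) (n : N), l ⟨g * n * g⁻¹, hN.conj_mem (n : G) n.2 g⟩ = l n := fun g n => by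
    simp only [l, MonoidHom.pow_apply, hm g n]
  have hlp : l ^ p = 1 := by
    refine MonoidHom.ext fun n => ?_
    simp only [l, MonoidHom.pow_apply]
    rw [← pow_mul, Nat.div_mul_cancel hdvd]
    exact DFunLike.congr_fun (pow_orderOf_eq_one m) n
  let M : Subgroup G := l.ker.map N.subtype
  haveI : M.Normal := by
    refine ⟨?_⟩
    rintro x ⟨n, hn, rfl⟩ g
    exact ⟨⟨g * n * g⁻¹, hN.conj_mem (n : G) n.2 g⟩, (hl g n).trans hn, rfl⟩
  have hle : N ≤ M := hN'.le.trans (CfsgLib.PReduced.pResidual_le_of_forall_pow_mem M fun x => by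
    obtain ⟨a, ha⟩ := CfsgLib.PReduced.exists_pow_mem_pResidual (p := p) x
    rw [← hN'] at ha
    refine ⟨a + 1, ⟨⟨x ^ p ^ a, ha⟩ ^ p, ?_, by rw [pow_succ, pow_mul]; rfl⟩⟩
    show l (⟨x ^ p ^ a, ha⟩ ^ p) = 1
    rw [map_pow]
    exact DFunLike.congr_fun hlp ⟨x ^ p ^ a, ha⟩)
  have hl1 : l = 1 := MonoidHom.ext fun n => by
    obtain ⟨n', hn', he⟩ := hle n.2
    rw [← Subtype.ext he]
    exact hn'
  have hpos : 0 < orderOf m / p :=
    Nat.div_pos (Nat.le_of_dvd hfin.orderOf_pos hdvd) hp.out.pos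
  exact absurd (orderOf_dvd_of_pow_eq_one hl1)
    (Nat.not_dvd_of_pos_of_lt hpos (Nat.div_lt_self hfin.orderOf_pos hp.out.one_lt))

/-- An invariant character of `O^p(G)` of degree prime to `p` extends with determinantal order prime to `p`. -/
theorem exists_canonical_extension (N : Subgroup G) [hN : N.Normal] (hN' : N = Cfsg.pResidual p G)
    {θ : N → ℂ} (hθ : IsIrrCharacter N θ)
    (hi : ∀ (g : G) (n : N), θ ⟨g * n * g⁻¹, hN.conj_mem (n : G) n.2 g⟩ = θ n) (hd : ¬ p ∣ charDegree θ) :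
    ∃ χ : G → ℂ, IsIrrCharacter G χ ∧ (∀ n : N, χ n = θ n) ∧ ¬ p ∣ detOrder χ := by
  obtain ⟨k, hk⟩ := CfsgLib.Transfer.index_pResidual (p := p) (G := G)
  rw [← hN'] at hk
  obtain ⟨d, hdd⟩ := exists_detHom hθ
  have hdinv : ∀ (g : G) (n : N), d ⟨g * n * g⁻¹, hN.conj_mem (n : G) n.2 g⟩ = d n := by
    intro g n
    obtain ⟨j, σ, hσ, hσc⟩ := id hθ
    let σ' : Representation ℂ N (Fin j → ℂ) := σ.comp (MulAut.conjNormal g).toMonoidHom
    have hσ' : σ'.character = θ := funext fun x => by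
      show σ.character (MulAut.conjNormal g x) = _
      rw [hσc]
      exact (congrArg _ (Subtype.ext (MulAut.conjNormal_apply g x))).trans (hi g x)
    have e1 := congrFun hdd n
    have e2 := congrFun hdd ⟨g * n * g⁻¹, hN.conj_mem (n : G) n.2 g⟩
    rw [detChar_eq hθ σ' hσ'] at e1
    rw [detChar_eq hθ σ hσc] at e2
    rw [← e1, ← e2]
    exact congrArg (fun x => LinearMap.det (σ x)) (Subtype.ext (MulAut.conjNormal_apply g n).symm)
  have hord : ¬ p ∣ orderOf d.toHomUnits :=
    not_dvd_orderOf_invariant_hom N hN' _ fun g n => Units.ext (hdinv g n)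
  obtain ⟨μ, hμ, hμo⟩ := exists_coprime_linearExtension d hdinv (o := orderOf d.toHomUnits) (fun n =>
    congrArg Units.val (DFunLike.congr_fun (pow_orderOf_eq_one d.toHomUnits) n))
    (by rw [hk]; exact (hp.out.coprime_iff_not_dvd.2 hord).pow_left _)
  have hcop : Nat.Coprime N.index (charDegree θ) := by
    rw [hk]; exact (hp.out.coprime_iff_not_dvd.2 hd).pow_left _
  obtain ⟨η, hη, hηres⟩ := exists_charExtension_of_det hθ hi (apply_one (isCharacter_of_irr hθ)) hcop μ
    (fun n => by rw [hμ, hdd])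
  obtain ⟨χ, hχ, hres, hdet⟩ := exists_extension_with_det hθ (apply_one (isCharacter_of_irr hθ)) hcop hη hηres μ
    (fun n => by rw [hμ, hdd])
  refine ⟨χ, hχ, hres, fun h => hord (h.trans (orderOf_dvd_of_pow_eq_one ?_))⟩
  rw [hdet]
  funext g
  exact hμo g

/-- The canonical extension is unique. -/
theorem canonical_extension_unique (N : Subgroup G) [hN : N.Normal] (hN' : N = Cfsg.pResidual p G)
    {θ : N → ℂ} (hθ : IsIrrCharacter N θ) (hd : ¬ p ∣ charDegree θ) {χ χ' : G → ℂ}
    (hχ : IsIrrCharacter G χ) (hres : ∀ n : N, χ n = θ n) (ho : ¬ p ∣ detOrder χ)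
    (hχ' : IsIrrCharacter G χ') (hres' : ∀ n : N, χ' n = θ n) (ho' : ¬ p ∣ detOrder χ') : χ' = χ := by
  obtain ⟨k, hk⟩ := CfsgLib.Transfer.index_pResidual (p := p) (G := G)
  rw [← hN'] at hk
  refine extension_unique_of_det hθ (apply_one (isCharacter_of_irr hθ)) hχ hres hχ' hres'
    (a := detOrder χ * detOrder χ') ?_ fun g => ?_
  · rw [hk]
    exact ((hp.out.coprime_iff_not_dvd.2 hd).mul_right
      ((hp.out.coprime_iff_not_dvd.2 ho).mul_right (hp.out.coprime_iff_not_dvd.2 ho'))).pow_left _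
  · have h1 : detChar χ ^ (detOrder χ * detOrder χ') = 1 := by
      rw [pow_mul, detOrder, pow_orderOf_eq_one, one_pow]
    have h2 : detChar χ' ^ (detOrder χ * detOrder χ') = 1 := by
      rw [mul_comm, pow_mul, detOrder, pow_orderOf_eq_one, one_pow]
    have e1 := congrFun h1 g
    have e2 := congrFun h2 g
    simp only [Pi.pow_apply, Pi.one_apply] at e1 e2
    rw [e1, e2]

end CfsgLib.Clifford
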